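import Cfsg.Agent.H37.OddInv.Root

/-!
Centraliser orders of involutions of the diagonal subgroup, through the Bruhat normal form.
-/

set_option autoImplicit false

namespace Cfsg.Agent.H37.OddInv

open Cfsg.Lie Cfsg.Agent.H37 Cfsg.Agent.H37.RootSys Cfsg.Agent.H37.Weyl
open Cfsg.Agent.Chevalley (pairingSum)

/-- The parity of a root at the sign vector `v`. -/
def evenB (D : ChevalleyDatum) (v : ℕ → ℤ) (r : ℕ) : Bool :=
  ((List.range D.rank).map fun m => v m * D.cartan m r).sum % 2 == 0

variable {D : ChevalleyDatum} {F : Type*} [Field F] (Q : Chev.Data D F)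

theorem chi_comb {r s k : ℕ} (hr : r < D.nroots) (hs : s < D.nroots) (hk : k < D.nroots) {a b : ℤ}
    (h : ∀ i < D.rank, Q.K.cf k i = a * Q.K.cf r i + b * Q.K.cf s i) (c : Fin Q.X.n → Fˣ) :
    chi Q k c = chi Q r c ^ a * chi Q s c ^ b := by
  simp only [chi, ← Finset.prod_zpow, ← Finset.prod_mul_distrib]
  refine Finset.prod_congr rfl fun m _ => ?_
  have hm : m.val < D.rank := Q.rank_eq.symm ▸ m.isLt
  rw [← zpow_mul, ← zpow_mul, ← zpow_add]
  congr 1
  rw [Q.K.cartan_lin m hm k hk, Q.K.cartan_lin m hm r hr, Q.K.cartan_lin m hm s hs,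
    Chevalley.list_sum_range_map, Chevalley.list_sum_range_map, Chevalley.list_sum_range_map,
    Finset.sum_mul, Finset.sum_mul, ← Finset.sum_add_distrib]
  refine Finset.sum_congr rfl fun j hj => ?_
  rw [h j (Finset.mem_range.1 hj)]
  ring

theorem chi_eq_one_of_simple {c : Fin Q.X.n → Fˣ}
    (h : ∀ i < D.rank, chi Q (D.simple i) c = 1) : ∀ r < D.nroots, chi Q r c = 1 := by
  refine Q.K.root_induction (P := fun r => chi Q r c = 1) h fun i hi r hr ih => ?_
  have hs := (Q.K.simple_lt i hi).1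
  rw [chi_comb Q hr hs (Q.K.w_lt i hi r hr).1 (a := 1) (b := -D.cartan i r) (fun j hj => ?_), ih,
    h i hi, one_zpow, one_zpow, mul_one]
  rw [Q.K.cf_w i hi r hr j hj, Q.K.cf_simple i hi j hj]
  split <;> ring

/-- An element of the diagonal subgroup fixing the fundamental root subgroups is trivial. -/
theorem tg_eq_one {c : Fin Q.X.n → Fˣ} (h : ∀ i < D.rank, chi Q (D.simple i) c = 1) : tg Q c = 1 := by
  refine Subtype.ext (Q.faithful (show (tg Q c : GL D.Idx F) ∈ D.diagonalSubgroup F from tg_mem Q c)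
    fun r hr _ => ?_)
  have h' := tg_conj Q hr c 1
  rw [chi_eq_one_of_simple Q h r hr, Units.val_one, one_mul, mul_inv_eq_iff_eq_mul] at h'
  exact congrArg Subtype.val h'

/-- The sign vector as a torus argument. -/
def sgn (v : ℕ → ℤ) : Fin Q.X.n → Fˣ := fun m => (-1 : Fˣ) ^ v m.val

theorem chi_sgn (v : ℕ → ℤ) (r : ℕ) :
    chi Q r (sgn Q v) = if evenB D v r then 1 else -1 := by
  have h : chi Q r (sgn Q v) = (-1 : Fˣ) ^ (((List.range D.rank).map fun m => v m * D.cartan m r).sum) := by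
    rw [Chevalley.list_sum_range_map, show Finset.range D.rank = Finset.range Q.X.n by rw [Q.rank_eq],
      ← Fin.sum_univ_eq_sum_range (fun m => v m * D.cartan m r)]
    simp only [chi, sgn, ← zpow_mul]
    induction (Finset.univ : Finset (Fin Q.X.n)) using Finset.induction with
    | empty => simp
    | insert a T ha ih => rw [Finset.prod_insert ha, Finset.sum_insert ha, zpow_add, ih]
  rw [h]
  by_cases he : evenB D v r = true
  · rw [if_pos he]
    simp only [evenB, beq_iff_eq] at he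
    exact (Int.even_iff.2 he).neg_one_zpow
  · rw [if_neg he]
    simp only [evenB, beq_iff_eq] at he
    exact (Int.not_even_iff_odd.1 fun h => he (Int.even_iff.1 h)).neg_one_zpow

/-- The involution of a sign vector. -/
noncomputable def invol (v : ℕ → ℤ) : ↥(D.group F) := tg Q (sgn Q v)

theorem invol_mem (v : ℕ → ℤ) : invol Q v ∈ Q.amb.H := tg_mem Q _

theorem invol_sq (v : ℕ → ℤ) : invol Q v * invol Q v = 1 := by
  rw [invol, ← map_mul, show sgn Q v * sgn Q v = 1 from funext fun m => ?_, map_one]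
  simp only [sgn, Pi.mul_apply, Pi.one_apply, ← mul_zpow, mul_neg, mul_one, neg_neg, one_zpow]

theorem invol_conj (v : ℕ → ℤ) {r : ℕ} (hr : r < D.nroots) (t : F) :
    invol Q v * xg Q r t * (invol Q v)⁻¹ = xg Q r (if evenB D v r then t else -t) := by
  rw [invol, tg_conj Q hr, chi_sgn]
  split <;> simp

variable (h2 : (2 : F) ≠ 0)
include h2

theorem one_ne_neg_one : (1 : F) ≠ -1 := fun h => h2 (by linear_combination h)

/-- The fixed points on the subgroup of a closed set. -/
theorem fixed_XS (v : ℕ → ℤ) {S : Finset ℕ} (hS : Q.sys.toUnip.Closed S) {g : ↥(D.group F)}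
    (hg : g ∈ XS Q.sys.x (↑S : Set ℕ)) (hfix : invol Q v * g * (invol Q v)⁻¹ = g) :
    g ∈ XS Q.sys.x (↑(S.filter fun r => evenB D v r = true) : Set ℕ) := by
  suffices ∀ (m k : ℕ), S.sup id < k + m → ∀ g ∈ XS Q.sys.x {r | r ∈ S ∧ k ≤ r},
      invol Q v * g * (invol Q v)⁻¹ = g →
      g ∈ XS Q.sys.x (↑(S.filter fun r => evenB D v r = true) : Set ℕ) by
    exact this (S.sup id + 1) 0 (by omega) g
      (XS_mono (S' := {r | r ∈ S ∧ 0 ≤ r}) (fun r hr => ⟨hr, Nat.zero_le r⟩) hg) hfix
  intro m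
  induction m with
  | zero =>
    intro k hk g hg _
    have : {r | r ∈ S ∧ k ≤ r} = ∅ := by
      refine Set.eq_empty_iff_forall_notMem.2 fun r hr => ?_
      have := Finset.le_sup (f := id) hr.1
      simp only [id_eq] at this
      have := hr.2
      omega
    rw [this, XS_empty, Subgroup.mem_bot] at hg
    exact hg ▸ one_mem _
  | succ m ih =>
    intro k hk g hg hfix
    by_cases hkS : k ∈ S
    · obtain ⟨t, p, hp, rfl⟩ := Q.sys.toUnip.exists_head hS hkS hg
      have hlt : ∀ {r}, r ∈ S → r < D.nroots := fun h => (mem_posSet.1 (hS.1 h)).1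
      have hp' : invol Q v * p * (invol Q v)⁻¹ ∈ XS Q.sys.x {r | r ∈ S ∧ k < r} :=
        conj_mem_XS (fun r hr u => by
          rw [show Q.sys.x r u = xg Q r u from rfl, invol_conj Q v (hlt hr.1)]
          exact x_mem_XS hr _) hp
      have hfix' : Q.sys.x k (if evenB D v k then t else -t) * (invol Q v * p * (invol Q v)⁻¹)
          = Q.sys.x k t * p := by
        rw [show Q.sys.x k (if evenB D v k then t else -t)
          = invol Q v * Q.sys.x k t * (invol Q v)⁻¹ from (invol_conj Q v (hlt hkS) t).symm]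
        calc _ = invol Q v * (Q.sys.x k t * p) * (invol Q v)⁻¹ := by group
          _ = _ := hfix
      obtain ⟨e1, e2⟩ := Q.sys.toUnip.head_unique hS hkS hp' hp hfix'
      have htail := ih (k + 1) (by omega) p hp e2
      by_cases hev : evenB D v k = true
      · exact mul_mem (x_mem_XS (Finset.mem_coe.2 (Finset.mem_filter.2 ⟨hkS, hev⟩)) t) htail
      · rw [if_neg hev] at e1
        have ht : t = 0 := by
          rcases mul_eq_zero.1 (show (2 : F) * t = 0 by linear_combination -e1) with h | h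
          · exact absurd h h2
          · exact h
        rw [ht, Q.sys.toUnip.x_zero (hS.1 hkS), one_mul]
        exact htail
    · rw [Unip.tail_of_not_mem hkS] at hg
      exact ih (k + 1) (by omega) g hg hfix

theorem closed_filter (v : ℕ → ℤ) {S : Finset ℕ} (hS : Q.sys.toUnip.Closed S) :
    Q.sys.toUnip.Closed (S.filter fun r => evenB D v r = true) := by
  refine ⟨(Finset.filter_subset _ _).trans hS.1, fun r hr s hs hrs k hk => ?_⟩
  rw [Finset.mem_filter] at hr hs ⊢
  have hkS := hS.2 r hr.1 s hs.1 hrs k hk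
  refine ⟨hkS, ?_⟩
  obtain ⟨hklt, a, b, -, -, e⟩ := (hk : Combo Q.K r s k)
  have h := chi_comb Q (mem_posSet.1 (hS.1 hr.1)).1 (mem_posSet.1 (hS.1 hs.1)).1 hklt
    (a := (a : ℤ)) (b := (b : ℤ)) e (sgn Q v)
  rw [chi_sgn, chi_sgn, chi_sgn, if_pos hr.2, if_pos hs.2, one_zpow, one_zpow, mul_one] at h
  by_contra hk'
  rw [if_neg hk'] at h
  exact one_ne_neg_one h2 (by simpa using congrArg (Units.val : Fˣ → F) h.symm)

theorem card_fixed_XS (v : ℕ → ℤ) {S : Finset ℕ} (hS : Q.sys.toUnip.Closed S) :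
    Nat.card ↥(XS Q.sys.x (↑S : Set ℕ) ⊓ Subgroup.centralizer {invol Q v})
      = Nat.card F ^ (S.filter fun r => evenB D v r = true).card := by
  have e : XS Q.sys.x (↑S : Set ℕ) ⊓ Subgroup.centralizer {invol Q v}
      = XS Q.sys.x (↑(S.filter fun r => evenB D v r = true) : Set ℕ) := by
    refine le_antisymm (fun g hg => fixed_XS Q h2 v hS hg.1 ?_) (XS_le fun r hr t => ?_)
    · rw [← Subgroup.mem_centralizer_singleton_iff.1 hg.2, mul_inv_cancel_right]
    · rw [Finset.mem_coe, Finset.mem_filter] at hr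
      refine ⟨x_mem_XS (Finset.mem_coe.2 hr.1) t, Subgroup.mem_centralizer_singleton_iff.2 ?_⟩
      have h := invol_conj Q v (mem_posSet.1 (hS.1 hr.1)).1 t
      rw [if_pos hr.2, mul_inv_eq_iff_eq_mul] at h
      exact h.symm
  rw [e]
  exact Q.sys.toUnip.card_XS (closed_filter Q h2 v hS)

/-- The condition for `n_w` to centralise the involution. -/
def Fixes (v : ℕ → ℤ) (w : Q.X.M.Group) : Prop :=
  ∀ i < D.rank, evenB D v (rho Q w (D.simple i)) = evenB D v (D.simple i)

theorem rep_comm_iff (v : ℕ → ℤ) (w : Q.X.M.Group) :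
    Q.sys.rep w * invol Q v = invol Q v * Q.sys.rep w ↔ Fixes Q v w := by
  set n := Q.sys.rep w
  set s := invol Q v
  constructor
  · intro hc i hi
    have hs := (Q.K.simple_lt i hi).1
    obtain ⟨l, hl⟩ := Acts.rep Q w (D.simple i) hs
    have e : n * (s * xg Q (D.simple i) 1 * s⁻¹) * n⁻¹
        = s * (n * xg Q (D.simple i) 1 * n⁻¹) * s⁻¹ := by
      rw [show n * (s * xg Q (D.simple i) 1 * s⁻¹) * n⁻¹
        = n * s * xg Q (D.simple i) 1 * (n * s)⁻¹ by group, hc]
      group
    rw [invol_conj Q v hs, hl, hl, invol_conj Q v (rho_lt Q w hs)] at e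
    have e' := xg_inj Q (rho_lt Q w hs) e
    have hl0 := l.ne_zero
    generalize evenB D v (rho Q w (D.simple i)) = a, evenB D v (D.simple i) = b at e' ⊢
    cases a <;> cases b <;> simp only [if_true, Bool.false_eq_true, if_false] at e' ⊢ <;>
    · exfalso
      exact h2 ((mul_eq_zero.1 (show (2 : F) * (l : F) = 0 by
        first | linear_combination e' | linear_combination -e')).resolve_right hl0)
  · intro hf
    have hd : n⁻¹ * s * n * s⁻¹ ∈ Q.amb.H :=
      mul_mem (Q.amb.n_conj_H' w (invol_mem Q v)) (inv_mem (invol_mem Q v))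
    obtain ⟨c, hc⟩ := exists_tg Q hd
    have h1 : tg Q c = 1 := by
      refine tg_eq_one Q fun i hi => ?_
      have hs := (Q.K.simple_lt i hi).1
      obtain ⟨l, hl⟩ := Acts.rep Q w (D.simple i) hs
      have e := tg_conj Q hs c (1 : F)
      rw [hc] at e
      have e1 : s⁻¹ * xg Q (D.simple i) 1 * s⁻¹⁻¹
          = xg Q (D.simple i) (if evenB D v (D.simple i) then 1 else -1) := by
        rw [inv_eq_of_mul_eq_one_right (invol_sq Q v)]
        exact invol_conj Q v hs 1
      have e2 : n * (n⁻¹ * s * n * s⁻¹ * xg Q (D.simple i) 1 * (n⁻¹ * s * n * s⁻¹)⁻¹) * n⁻¹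
          = n * xg Q (D.simple i) 1 * n⁻¹ := by
        rw [show n * (n⁻¹ * s * n * s⁻¹ * xg Q (D.simple i) 1 * (n⁻¹ * s * n * s⁻¹)⁻¹) * n⁻¹
          = s * (n * (s⁻¹ * xg Q (D.simple i) 1 * s⁻¹⁻¹) * n⁻¹) * s⁻¹ by group, e1, hl, hl,
          invol_conj Q v (rho_lt Q w hs), hf i hi]
        split <;> simp
      rw [e, hl, hl] at e2
      refine Units.ext ?_
      have := xg_inj Q (rho_lt Q w hs) e2
      simpa using this
    rw [h1] at hc
    calc n * s = n * (n⁻¹ * s * n * s⁻¹) * s := by rw [← hc, mul_one]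
      _ = s * n := by group

open Classical in
/-- The centraliser in Bruhat normal form. -/
noncomputable def centForm (v : ℕ → ℤ) :
    NormalForm ↥(Subgroup.centralizer ({invol Q v} : Set ↥(D.group F)))
      {w : Q.X.M.Group // Fixes Q v w} where
  U := Q.amb.U.subgroupOf _
  H := Q.amb.H.subgroupOf _
  n w := ⟨Q.sys.rep w.1, Subgroup.mem_centralizer_singleton_iff.2 ((rep_comm_iff Q h2 v w.1).2 w.2)⟩
  Uw w := (Q.amb.Uw w.1).subgroupOf _
  exists_eq := by
    rintro ⟨g, hg⟩
    obtain ⟨u, hu, h, hh, w, x, hx, rfl⟩ := Q.amb.exists_eq g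
    set s := invol Q v with hs
    set n := Q.amb.n w with hn
    have hg' := Subgroup.mem_centralizer_singleton_iff.1 hg
    have hconjU : s * u * s⁻¹ ∈ Q.amb.U := Q.amb.H_conj_U s (invol_mem Q v) u hu
    have hconjw : s * x * s⁻¹ ∈ Q.amb.Uw w := conj_mem_XS (fun r hr t => by
      rw [show Q.sys.x r t = xg Q r t from rfl, invol_conj Q v (Sys.mem_flip.1 hr).1]
      exact x_mem_XS hr _) hx
    have hH : h * (s * (n * s⁻¹ * n⁻¹)) ∈ Q.amb.H :=
      mul_mem hh (mul_mem (invol_mem Q v) (Q.amb.n_conj_H w _ (inv_mem (invol_mem Q v))))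
    have hhs : s * h = h * s := by
      obtain ⟨c, rfl⟩ := exists_tg Q hh
      rw [hs, invol, ← map_mul, ← map_mul, mul_comm]
    have e : s * u * s⁻¹ * (h * (s * (n * s⁻¹ * n⁻¹))) * n * (s * x * s⁻¹) = u * h * n * x := by
      calc _ = s * u * s⁻¹ * (h * s) * n * x * s⁻¹ := by group
        _ = s * (u * h * n * x) * s⁻¹ := by rw [← hhs]; group
        _ = _ := by rw [← hg', mul_inv_cancel_right]
    obtain ⟨-, e1, e2, e3⟩ := Q.amb.unique hconjU hu hH hh hconjw hx e
    rw [mul_eq_left] at e2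
    have hnc : n * s = s * n := by
      calc n * s = (s * (n * s⁻¹ * n⁻¹))⁻¹ * s * n := by group
        _ = s * n := by rw [e2]; group
    exact ⟨⟨u, Subgroup.mem_centralizer_singleton_iff.2 (mul_inv_eq_iff_eq_mul.1 e1).symm⟩, hu,
      ⟨h, Subgroup.mem_centralizer_singleton_iff.2 hhs.symm⟩, hh,
      ⟨w, (rep_comm_iff Q h2 v w).1 hnc⟩,
      ⟨x, Subgroup.mem_centralizer_singleton_iff.2 (mul_inv_eq_iff_eq_mul.1 e3).symm⟩, hx,
      Subtype.ext rfl⟩
  unique := by
    intro u u' h h' x x' w w' hu hu' hh hh' hx hx' he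
    obtain ⟨h1, h2, h3, h4⟩ := Q.amb.unique hu hu' hh hh' hx hx' (congrArg Subtype.val he)
    exact ⟨Subtype.ext h1, Subtype.ext h2, Subtype.ext h3, Subtype.ext h4⟩

open Classical in
theorem card_centralizer [Fintype Q.X.M.Group] [Finite ↥(D.group F)] (v : ℕ → ℤ) :
    Nat.card (Subgroup.centralizer ({invol Q v} : Set ↥(D.group F))) =
      Nat.card F ^ ((posSet D).filter fun r => evenB D v r = true).card *
        Nat.card (D.diagonalSubgroup F) *
        ∑ w : Q.X.M.Group, if Fixes Q v w then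
          Nat.card F ^ ((Sys.flip Q.X.good w).filter fun r => evenB D v r = true).card else 0 := by
  set C := Subgroup.centralizer ({invol Q v} : Set ↥(D.group F)) with hC
  have hsub : ∀ K : Subgroup ↥(D.group F), Nat.card (K.subgroupOf C) = Nat.card ↥(K ⊓ C) := fun K => by
    rw [← Subgroup.inf_subgroupOf_right]
    exact Nat.card_congr (Subgroup.subgroupOfEquivOfLe inf_le_right).toEquiv
  rw [(centForm Q h2 v).card_eq]
  congr 1
  · congr 1
    · show Nat.card (Q.amb.U.subgroupOf C) = _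
      rw [hsub]
      exact card_fixed_XS Q h2 v (Q.sys.P_eq ▸ Q.sys.toUnip.closed_P)
    · show Nat.card (Q.amb.H.subgroupOf C) = _
      rw [← Q.card_H]
      refine Nat.card_congr (Subgroup.subgroupOfEquivOfLe ?_).toEquiv
      intro h hh
      obtain ⟨c, rfl⟩ := exists_tg Q hh
      rw [hC, Subgroup.mem_centralizer_singleton_iff, invol, ← map_mul, ← map_mul, mul_comm]
  · rw [← Finset.sum_filter, ← Finset.sum_subtype_eq_sum_filter, Finset.subtype_univ]
    refine Finset.sum_congr rfl fun w _ => ?_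
    show Nat.card ((Q.amb.Uw w.1).subgroupOf C) = _
    rw [hsub]
    exact card_fixed_XS Q h2 v (Q.sys.closed_flip w.1)

end Cfsg.Agent.H37.OddInv
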