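import Cfsg.Agent.H37.OddInv.E8Parab

/-! The sign vectors of E₈: their two orbits, and the scans of the roots used for the cover. -/

set_option autoImplicit false
set_option maxRecDepth 100000
set_option Elab.async false

namespace Cfsg.Agent.H37.OddInv.E8

open Cfsg.Lie Cfsg.Agent.H37 Cfsg.Agent.H37.RootSys Cfsg.Agent.H37.Weyl

/-- The sign vector of a mask. -/
def vecM (mask : ℕ) : ℕ → ℤ := fun m => if mask.testBit m then 1 else 0

/-- The edges of the orbit forest: target, node, parent. -/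
def edges : List (ℕ × ℕ × ℕ) :=
  [(6, 8, 6), (7, 0, 6), (3, 2, 7), (11, 3, 3), (9, 1, 11), (27, 4, 11), (25, 4, 9), (59, 5, 27),
   (17, 3, 25), (57, 5, 25), (123, 6, 59), (21, 2, 17), (49, 5, 17), (121, 6, 57), (251, 7, 123), (20, 0, 21),
   (53, 5, 21), (33, 4, 49), (113, 6, 49), (249, 7, 121), (52, 5, 20), (37, 4, 53), (117, 6, 53), (97, 6, 33),
   (241, 7, 113), (36, 4, 52), (116, 6, 52), (45, 3, 37), (101, 6, 37), (245, 7, 117), (65, 5, 97), (225, 7, 97),
   (44, 3, 36), (100, 6, 36), (244, 7, 116), (47, 1, 45), (109, 6, 45), (69, 5, 101), (229, 7, 101), (193, 7, 65),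
   (46, 1, 44), (40, 2, 44), (108, 6, 44), (68, 5, 100), (228, 7, 100), (111, 6, 47), (77, 5, 109), (237, 7, 109),
   (197, 7, 69), (129, 6, 193), (42, 2, 46), (110, 6, 46), (104, 6, 40), (76, 5, 108), (236, 7, 108), (196, 7, 68),
   (79, 5, 111), (239, 7, 111), (93, 4, 77), (205, 7, 77), (133, 6, 197), (34, 3, 42), (106, 6, 42), (78, 5, 110),
   (238, 7, 110), (72, 5, 104), (232, 7, 104), (92, 4, 76), (204, 7, 76), (132, 6, 196), (95, 4, 79), (207, 7, 79),
   (221, 7, 93), (141, 6, 205), (50, 4, 34), (98, 6, 34), (74, 5, 106), (234, 7, 106), (94, 4, 78), (206, 7, 78),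
   (88, 4, 72), (200, 7, 72), (220, 7, 92), (140, 6, 204), (87, 3, 95), (223, 7, 95), (143, 6, 207), (157, 6, 221),
   (18, 5, 50), (114, 6, 50), (66, 5, 98), (226, 7, 98), (90, 4, 74), (202, 7, 74), (86, 3, 94), (222, 7, 94),
   (142, 6, 206), (80, 3, 88), (216, 7, 88), (136, 6, 200), (156, 6, 220), (83, 2, 87), (215, 7, 87), (159, 6, 223),
   (189, 5, 157), (242, 7, 114), (194, 7, 66), (218, 7, 90), (138, 6, 202), (214, 7, 86), (158, 6, 222), (208, 7, 80),
   (152, 6, 216), (188, 5, 156), (211, 7, 83), (151, 6, 215), (191, 5, 159), (130, 6, 194), (154, 6, 218), (150, 6, 214),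
   (190, 5, 158), (144, 6, 208), (184, 5, 152), (147, 6, 211), (183, 5, 151), (186, 5, 154), (182, 5, 150), (176, 5, 144),
   (179, 5, 147), (167, 4, 183), (166, 4, 182), (160, 4, 176), (163, 4, 179), (171, 3, 163), (169, 1, 171), (82, 8, 82),
   (210, 7, 82), (146, 6, 210), (178, 5, 146), (162, 4, 178), (170, 3, 162), (168, 1, 170), (174, 2, 170), (172, 2, 168),
   (175, 0, 174), (173, 0, 172), (164, 3, 172), (165, 3, 173), (180, 4, 164), (161, 2, 165), (181, 4, 165), (148, 5, 180),
   (177, 4, 161), (149, 5, 181), (212, 6, 148), (185, 3, 177), (145, 5, 177), (213, 6, 149), (84, 7, 212), (187, 1, 185),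
   (153, 5, 185), (209, 6, 145), (85, 7, 213), (155, 5, 187), (137, 4, 153), (217, 6, 153), (81, 7, 209), (139, 4, 155),
   (219, 6, 155), (201, 6, 137), (89, 7, 217), (131, 3, 139), (203, 6, 139), (91, 7, 219), (233, 5, 201), (73, 7, 201),
   (135, 2, 131), (195, 6, 131), (235, 5, 203), (75, 7, 203), (105, 7, 233), (134, 0, 135), (199, 6, 135), (227, 5, 195),
   (67, 7, 195), (107, 7, 235), (41, 6, 105), (198, 6, 134), (231, 5, 199), (71, 7, 199), (243, 4, 227), (99, 7, 227),
   (43, 6, 107), (230, 5, 198), (70, 7, 198), (247, 4, 231), (103, 7, 231), (115, 7, 243), (35, 6, 99), (246, 4, 230),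
   (102, 7, 230), (255, 3, 247), (119, 7, 247), (39, 6, 103), (51, 6, 115), (254, 3, 246), (118, 7, 246), (38, 6, 102),
   (253, 1, 255), (127, 7, 255), (55, 6, 119), (19, 5, 51), (252, 1, 254), (250, 2, 254), (126, 7, 254), (54, 6, 118),
   (125, 7, 253), (63, 6, 127), (23, 5, 55), (248, 2, 252), (124, 7, 252), (122, 7, 250), (62, 6, 126), (22, 5, 54),
   (61, 6, 125), (31, 5, 63), (240, 3, 248), (120, 7, 248), (60, 6, 124), (58, 6, 122), (30, 5, 62), (29, 5, 61),
   (15, 4, 31), (224, 4, 240), (112, 7, 240), (56, 6, 120), (28, 5, 60), (26, 5, 58), (14, 4, 30), (13, 4, 29),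
   (192, 5, 224), (96, 7, 224), (48, 6, 112), (24, 5, 56), (12, 4, 28), (10, 4, 26), (5, 3, 13), (128, 6, 192),
   (64, 7, 192), (32, 6, 96), (16, 5, 48), (8, 4, 24), (4, 3, 12), (2, 3, 10), (1, 2, 5)]

/-- The parity condition of an edge, through the Cartan matrix. -/
def parityB (e : ℕ × ℕ × ℕ) : Bool :=
  e.2.1 == 8 || (List.range 8).all fun j =>
    (((List.range 8).map fun m => vecM e.1 m * (cmN m j - cmN e.2.1 j * cmN m e.2.1)).sum
      - ((List.range 8).map fun m => vecM e.2.2 m * cmN m j).sum) % 2 == 0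

/-- The check on the orbit forest. -/
def chkOrbit : List (ℕ × ℕ × ℕ) → List ℕ → Bool
  | [], seen => (List.range 256).all fun m => m == 0 || seen.contains m
  | (md, i, mp) :: rest, seen =>
    ((i == 8 && (md == 6 || md == 82)) ||
      (decide (i < 8) && seen.contains mp && parityB (md, i, mp))) &&
      chkOrbit rest (md :: seen)

theorem orbit_check : chkOrbit edges [] = true := by decide +kernel

theorem mask_S : ∀ m : Fin 8, (av (fun k => vecM 6 k.val) m - if m = 0 then 1 else 0) % 2 = 0 := by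
  decide +kernel

theorem mask_T : ∀ m : Fin 8, (av (fun k => vecM 82 k.val) m - if m = 7 then 1 else 0) % 2 = 0 := by
  decide +kernel

theorem pos_S : ((List.range 240).countP fun r => decide (120 ≤ r) && pE 0 r) = 56 := by
  decide +kernel

theorem pos_T : ((List.range 240).countP fun r => decide (120 ≤ r) && pE 7 r) = 64 := by
  decide +kernel

end Cfsg.Agent.H37.OddInv.E8
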