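import Cfsg.Agent.H37.OddInv.E8Parab

/-! Machine-generated representatives (see `E8Parab.lean`). -/

set_option autoImplicit false
set_option maxRecDepth 100000
set_option Elab.async false

namespace Cfsg.Agent.H37.OddInv.E8

open Cfsg.Lie Cfsg.Agent.H37 Cfsg.Agent.H37.RootSys Cfsg.Agent.H37.Weyl

/-- A level. -/
def lvT0 : Lv where
  i0 := 6
  reps := [[], [6], [5, 6], [4, 5, 6], [3, 4, 5, 6], [2, 3, 4, 5, 6], [1, 3, 4, 5, 6], [1, 2, 3, 4, 5, 6], 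
      [0, 2, 3, 4, 5, 6], [3, 1, 2, 3, 4, 5, 6], [0, 1, 2, 3, 4, 5, 6], [4, 3, 1, 2, 3, 4, 5, 6], 
      [0, 3, 1, 2, 3, 4, 5, 6], [5, 4, 3, 1, 2, 3, 4, 5, 6], [0, 4, 3, 1, 2, 3, 4, 5, 6], 
      [2, 0, 3, 1, 2, 3, 4, 5, 6], [6, 5, 4, 3, 1, 2, 3, 4, 5, 6], [0, 5, 4, 3, 1, 2, 3, 4, 5, 6], 
      [2, 0, 4, 3, 1, 2, 3, 4, 5, 6], [0, 6, 5, 4, 3, 1, 2, 3, 4, 5, 6], [2, 0, 5, 4, 3, 1, 2, 3, 4, 5, 6], 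
      [3, 2, 0, 4, 3, 1, 2, 3, 4, 5, 6], [2, 0, 6, 5, 4, 3, 1, 2, 3, 4, 5, 6], 
      [3, 2, 0, 5, 4, 3, 1, 2, 3, 4, 5, 6], [1, 3, 2, 0, 4, 3, 1, 2, 3, 4, 5, 6], 
      [3, 2, 0, 6, 5, 4, 3, 1, 2, 3, 4, 5, 6], [4, 3, 2, 0, 5, 4, 3, 1, 2, 3, 4, 5, 6], 
      [1, 3, 2, 0, 5, 4, 3, 1, 2, 3, 4, 5, 6], [4, 3, 2, 0, 6, 5, 4, 3, 1, 2, 3, 4, 5, 6], 
      [1, 3, 2, 0, 6, 5, 4, 3, 1, 2, 3, 4, 5, 6], [1, 4, 3, 2, 0, 5, 4, 3, 1, 2, 3, 4, 5, 6], 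
      [5, 4, 3, 2, 0, 6, 5, 4, 3, 1, 2, 3, 4, 5, 6], [1, 4, 3, 2, 0, 6, 5, 4, 3, 1, 2, 3, 4, 5, 6], 
      [3, 1, 4, 3, 2, 0, 5, 4, 3, 1, 2, 3, 4, 5, 6], [1, 5, 4, 3, 2, 0, 6, 5, 4, 3, 1, 2, 3, 4, 5, 6], 
      [3, 1, 4, 3, 2, 0, 6, 5, 4, 3, 1, 2, 3, 4, 5, 6], [2, 3, 1, 4, 3, 2, 0, 5, 4, 3, 1, 2, 3, 4, 5, 6], 
      [3, 1, 5, 4, 3, 2, 0, 6, 5, 4, 3, 1, 2, 3, 4, 5, 6], 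
      [2, 3, 1, 4, 3, 2, 0, 6, 5, 4, 3, 1, 2, 3, 4, 5, 6], 
      [0, 2, 3, 1, 4, 3, 2, 0, 5, 4, 3, 1, 2, 3, 4, 5, 6], 
      [4, 3, 1, 5, 4, 3, 2, 0, 6, 5, 4, 3, 1, 2, 3, 4, 5, 6], 
      [2, 3, 1, 5, 4, 3, 2, 0, 6, 5, 4, 3, 1, 2, 3, 4, 5, 6], 
      [0, 2, 3, 1, 4, 3, 2, 0, 6, 5, 4, 3, 1, 2, 3, 4, 5, 6], 
      [2, 4, 3, 1, 5, 4, 3, 2, 0, 6, 5, 4, 3, 1, 2, 3, 4, 5, 6], 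
      [0, 2, 3, 1, 5, 4, 3, 2, 0, 6, 5, 4, 3, 1, 2, 3, 4, 5, 6], 
      [3, 2, 4, 3, 1, 5, 4, 3, 2, 0, 6, 5, 4, 3, 1, 2, 3, 4, 5, 6], 
      [0, 2, 4, 3, 1, 5, 4, 3, 2, 0, 6, 5, 4, 3, 1, 2, 3, 4, 5, 6], 
      [1, 3, 2, 4, 3, 1, 5, 4, 3, 2, 0, 6, 5, 4, 3, 1, 2, 3, 4, 5, 6], 
      [0, 3, 2, 4, 3, 1, 5, 4, 3, 2, 0, 6, 5, 4, 3, 1, 2, 3, 4, 5, 6], 
      [0, 1, 3, 2, 4, 3, 1, 5, 4, 3, 2, 0, 6, 5, 4, 3, 1, 2, 3, 4, 5, 6], 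
      [2, 0, 3, 2, 4, 3, 1, 5, 4, 3, 2, 0, 6, 5, 4, 3, 1, 2, 3, 4, 5, 6], 
      [2, 0, 1, 3, 2, 4, 3, 1, 5, 4, 3, 2, 0, 6, 5, 4, 3, 1, 2, 3, 4, 5, 6], 
      [3, 2, 0, 1, 3, 2, 4, 3, 1, 5, 4, 3, 2, 0, 6, 5, 4, 3, 1, 2, 3, 4, 5, 6], 
      [4, 3, 2, 0, 1, 3, 2, 4, 3, 1, 5, 4, 3, 2, 0, 6, 5, 4, 3, 1, 2, 3, 4, 5, 6], 
      [5, 4, 3, 2, 0, 1, 3, 2, 4, 3, 1, 5, 4, 3, 2, 0, 6, 5, 4, 3, 1, 2, 3, 4, 5, 6], 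
      [6, 5, 4, 3, 2, 0, 1, 3, 2, 4, 3, 1, 5, 4, 3, 2, 0, 6, 5, 4, 3, 1, 2, 3, 4, 5, 6]]
  keys := [[0, 0, 0, 0, 0, 0, 1, 0], [0, 0, 0, 0, 0, 1, -1, 1], [0, 0, 0, 0, 1, -1, 0, 1], 
      [0, 0, 0, 1, -1, 0, 0, 1], [0, 1, 1, -1, 0, 0, 0, 1], [1, 1, -1, 0, 0, 0, 0, 1], 
      [0, -1, 1, 0, 0, 0, 0, 1], [1, -1, -1, 1, 0, 0, 0, 1], [-1, 1, 0, 0, 0, 0, 0, 1], 
      [1, 0, 0, -1, 1, 0, 0, 1], [-1, -1, 0, 1, 0, 0, 0, 1], [1, 0, 0, 0, -1, 1, 0, 1], 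
      [-1, 0, 1, -1, 1, 0, 0, 1], [1, 0, 0, 0, 0, -1, 1, 1], [-1, 0, 1, 0, -1, 1, 0, 1], 
      [0, 0, -1, 0, 1, 0, 0, 1], [1, 0, 0, 0, 0, 0, -1, 2], [-1, 0, 1, 0, 0, -1, 1, 1], 
      [0, 0, -1, 1, -1, 1, 0, 1], [-1, 0, 1, 0, 0, 0, -1, 2], [0, 0, -1, 1, 0, -1, 1, 1], 
      [0, 1, 0, -1, 0, 1, 0, 1], [0, 0, -1, 1, 0, 0, -1, 2], [0, 1, 0, -1, 1, -1, 1, 1], 
      [0, -1, 0, 0, 0, 1, 0, 1], [0, 1, 0, -1, 1, 0, -1, 2], [0, 1, 0, 0, -1, 0, 1, 1], 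
      [0, -1, 0, 0, 1, -1, 1, 1], [0, 1, 0, 0, -1, 1, -1, 2], [0, -1, 0, 0, 1, 0, -1, 2], 
      [0, -1, 0, 1, -1, 0, 1, 1], [0, 1, 0, 0, 0, -1, 0, 2], [0, -1, 0, 1, -1, 1, -1, 2], 
      [0, 0, 1, -1, 0, 0, 1, 1], [0, -1, 0, 1, 0, -1, 0, 2], [0, 0, 1, -1, 0, 1, -1, 2], 
      [1, 0, -1, 0, 0, 0, 1, 1], [0, 0, 1, -1, 1, -1, 0, 2], [1, 0, -1, 0, 0, 1, -1, 2], 
      [-1, 0, 0, 0, 0, 0, 1, 1], [0, 0, 1, 0, -1, 0, 0, 2], [1, 0, -1, 0, 1, -1, 0, 2], 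
      [-1, 0, 0, 0, 0, 1, -1, 2], [1, 0, -1, 1, -1, 0, 0, 2], [-1, 0, 0, 0, 1, -1, 0, 2], 
      [1, 1, 0, -1, 0, 0, 0, 2], [-1, 0, 0, 1, -1, 0, 0, 2], [1, -1, 0, 0, 0, 0, 0, 2], 
      [-1, 1, 1, -1, 0, 0, 0, 2], [-1, -1, 1, 0, 0, 0, 0, 2], [0, 1, -1, 0, 0, 0, 0, 2], 
      [0, -1, -1, 1, 0, 0, 0, 2], [0, 0, 0, -1, 1, 0, 0, 2], [0, 0, 0, 0, -1, 1, 0, 2], 
      [0, 0, 0, 0, 0, -1, 1, 2], [0, 0, 0, 0, 0, 0, -1, 3]]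

/-- A level. -/
def lvT1 : Lv where
  i0 := 5
  reps := [[], [5], [4, 5], [3, 4, 5], [2, 3, 4, 5], [1, 3, 4, 5], [1, 2, 3, 4, 5], [0, 2, 3, 4, 5], 
      [3, 1, 2, 3, 4, 5], [0, 1, 2, 3, 4, 5], [4, 3, 1, 2, 3, 4, 5], [0, 3, 1, 2, 3, 4, 5], 
      [5, 4, 3, 1, 2, 3, 4, 5], [0, 4, 3, 1, 2, 3, 4, 5], [2, 0, 3, 1, 2, 3, 4, 5], 
      [0, 5, 4, 3, 1, 2, 3, 4, 5], [2, 0, 4, 3, 1, 2, 3, 4, 5], [2, 0, 5, 4, 3, 1, 2, 3, 4, 5], 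
      [3, 2, 0, 4, 3, 1, 2, 3, 4, 5], [3, 2, 0, 5, 4, 3, 1, 2, 3, 4, 5], [1, 3, 2, 0, 4, 3, 1, 2, 3, 4, 5], 
      [4, 3, 2, 0, 5, 4, 3, 1, 2, 3, 4, 5], [1, 3, 2, 0, 5, 4, 3, 1, 2, 3, 4, 5], 
      [1, 4, 3, 2, 0, 5, 4, 3, 1, 2, 3, 4, 5], [3, 1, 4, 3, 2, 0, 5, 4, 3, 1, 2, 3, 4, 5], 
      [2, 3, 1, 4, 3, 2, 0, 5, 4, 3, 1, 2, 3, 4, 5], [0, 2, 3, 1, 4, 3, 2, 0, 5, 4, 3, 1, 2, 3, 4, 5]]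
  keys := [[0, 0, 0, 0, 0, 1, 0, 0], [0, 0, 0, 0, 1, -1, 1, 0], [0, 0, 0, 1, -1, 0, 1, 0], 
      [0, 1, 1, -1, 0, 0, 1, 0], [1, 1, -1, 0, 0, 0, 1, 0], [0, -1, 1, 0, 0, 0, 1, 0], 
      [1, -1, -1, 1, 0, 0, 1, 0], [-1, 1, 0, 0, 0, 0, 1, 0], [1, 0, 0, -1, 1, 0, 1, 0], 
      [-1, -1, 0, 1, 0, 0, 1, 0], [1, 0, 0, 0, -1, 1, 1, 0], [-1, 0, 1, -1, 1, 0, 1, 0], 
      [1, 0, 0, 0, 0, -1, 2, 0], [-1, 0, 1, 0, -1, 1, 1, 0], [0, 0, -1, 0, 1, 0, 1, 0], 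
      [-1, 0, 1, 0, 0, -1, 2, 0], [0, 0, -1, 1, -1, 1, 1, 0], [0, 0, -1, 1, 0, -1, 2, 0], 
      [0, 1, 0, -1, 0, 1, 1, 0], [0, 1, 0, -1, 1, -1, 2, 0], [0, -1, 0, 0, 0, 1, 1, 0], 
      [0, 1, 0, 0, -1, 0, 2, 0], [0, -1, 0, 0, 1, -1, 2, 0], [0, -1, 0, 1, -1, 0, 2, 0], 
      [0, 0, 1, -1, 0, 0, 2, 0], [1, 0, -1, 0, 0, 0, 2, 0], [-1, 0, 0, 0, 0, 0, 2, 0]]

/-- A level. -/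
def lvT2 : Lv where
  i0 := 4
  reps := [[], [4], [3, 4], [2, 3, 4], [1, 3, 4], [1, 2, 3, 4], [0, 2, 3, 4], [3, 1, 2, 3, 4], [0, 1, 2, 3, 4], 
      [4, 3, 1, 2, 3, 4], [0, 3, 1, 2, 3, 4], [0, 4, 3, 1, 2, 3, 4], [2, 0, 3, 1, 2, 3, 4], 
      [2, 0, 4, 3, 1, 2, 3, 4], [3, 2, 0, 4, 3, 1, 2, 3, 4], [1, 3, 2, 0, 4, 3, 1, 2, 3, 4]]
  keys := [[0, 0, 0, 0, 1, 0, 0, 0], [0, 0, 0, 1, -1, 1, 0, 0], [0, 1, 1, -1, 0, 1, 0, 0], 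
      [1, 1, -1, 0, 0, 1, 0, 0], [0, -1, 1, 0, 0, 1, 0, 0], [1, -1, -1, 1, 0, 1, 0, 0], 
      [-1, 1, 0, 0, 0, 1, 0, 0], [1, 0, 0, -1, 1, 1, 0, 0], [-1, -1, 0, 1, 0, 1, 0, 0], 
      [1, 0, 0, 0, -1, 2, 0, 0], [-1, 0, 1, -1, 1, 1, 0, 0], [-1, 0, 1, 0, -1, 2, 0, 0], 
      [0, 0, -1, 0, 1, 1, 0, 0], [0, 0, -1, 1, -1, 2, 0, 0], [0, 1, 0, -1, 0, 2, 0, 0], 
      [0, -1, 0, 0, 0, 2, 0, 0]]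

/-- A level. -/
def lvT3 : Lv where
  i0 := 3
  reps := [[], [3], [2, 3], [1, 3], [1, 2, 3], [0, 2, 3], [3, 1, 2, 3], [0, 1, 2, 3], [0, 3, 1, 2, 3], 
      [2, 0, 3, 1, 2, 3]]
  keys := [[0, 0, 0, 1, 0, 0, 0, 0], [0, 1, 1, -1, 1, 0, 0, 0], [1, 1, -1, 0, 1, 0, 0, 0], 
      [0, -1, 1, 0, 1, 0, 0, 0], [1, -1, -1, 1, 1, 0, 0, 0], [-1, 1, 0, 0, 1, 0, 0, 0], 
      [1, 0, 0, -1, 2, 0, 0, 0], [-1, -1, 0, 1, 1, 0, 0, 0], [-1, 0, 1, -1, 2, 0, 0, 0], 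
      [0, 0, -1, 0, 2, 0, 0, 0]]

/-- A level. -/
def lvT4 : Lv where
  i0 := 2
  reps := [[], [2], [0, 2]]
  keys := [[0, 0, 1, 0, 0, 0, 0, 0], [1, 0, -1, 1, 0, 0, 0, 0], [-1, 0, 0, 1, 0, 0, 0, 0]]

/-- A level. -/
def lvT5 : Lv where
  i0 := 1
  reps := [[], [1]]
  keys := [[0, 1, 0, 0, 0, 0, 0, 0], [0, -1, 0, 1, 0, 0, 0, 0]]

/-- A level. -/
def lvT6 : Lv where
  i0 := 0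
  reps := [[], [0]]
  keys := [[1, 0, 0, 0, 0, 0, 0, 0], [-1, 0, 1, 0, 0, 0, 0, 0]]

/-- The chain. -/
def chainT : List Lv := [lvT0, lvT1, lvT2, lvT3, lvT4, lvT5, lvT6]

/-- The representatives at the top. -/
def topT : List (List ℕ) :=
  [[], 
      [7, 6, 5, 4, 3, 2, 1, 3, 4, 5, 6, 0, 2, 3, 4, 5, 1, 3, 4, 2, 3, 0, 2, 1, 3, 4, 5, 6, 7, 6, 5, 4, 3, 2, 1, 3, 4, 5, 6, 0, 2, 3, 4, 5, 1, 3, 4, 2, 3, 0, 2, 1, 3, 4, 5, 6, 7]]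

/-- Their keys. -/
def topKeysT : List (List ℤ) :=
  [[0, 0, 0, 0, 0, 0, 0, 1], [0, 0, 0, 0, 0, 0, 0, -1]]

theorem chk_lvT0 : chkLv 7 [5, 4, 3, 2, 1, 0] lvT0 = true := by decide +kernel

theorem chk_lvT1 : chkLv 7 [4, 3, 2, 1, 0] lvT1 = true := by decide +kernel

theorem chk_lvT2 : chkLv 7 [3, 2, 1, 0] lvT2 = true := by decide +kernel

theorem chk_lvT3 : chkLv 7 [2, 1, 0] lvT3 = true := by decide +kernel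

theorem chk_lvT4 : chkLv 7 [1, 0] lvT4 = true := by decide +kernel

theorem chk_lvT5 : chkLv 7 [0] lvT5 = true := by decide +kernel

theorem chk_lvT6 : chkLv 7 [] lvT6 = true := by decide +kernel

theorem chk_chainT : chkChain 7 chainT = true := by
  simp only [chainT, chkChain, List.map_cons, List.map_nil, Bool.and_true, Bool.and_eq_true]
  exact ⟨chk_lvT0, chk_lvT1, chk_lvT2, chk_lvT3, chk_lvT4, chk_lvT5, chk_lvT6⟩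

theorem chk_topT :
    chkReps 7 (chainT.map Lv.i0) topT topKeysT = true := by
  decide +kernel

theorem fix_topT : (topT.all fun u => (List.range 8).all fun m =>
    pE 7 (certE8.act u (chevE8.simple m)) == pE 7 (chevE8.simple m)) = true := by
  decide +kernel

/-- The polynomials of the factors. -/
theorem polyT : ((topT :: chainT.map Lv.reps).map fun R =>
      (R.map (wtA 7)).foldr bumpC []).foldr mulC [1]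
    = ([2, 2, 6, 8, 10, 12, 14, 18].map fun d => List.replicate d 1).foldr mulC [1] := by
  decide +kernel

end Cfsg.Agent.H37.OddInv.E8
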