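import Cfsg.Agent.H37.OddInv.E8DataS
import Cfsg.Agent.H37.OddInv.E8DataT

/-! The scans of the roots of E₈ used for covering the fixers of the two sign vectors. -/

set_option autoImplicit false
set_option maxRecDepth 100000
set_option Elab.async false

namespace Cfsg.Agent.H37.OddInv.E8

open Cfsg.Lie Cfsg.Agent.H37 Cfsg.Agent.H37.RootSys Cfsg.Agent.H37.Weyl

theorem scan_S : ((List.range 240).all fun r => !(cfE r 0 == -2) || topKeysS.contains
    ((List.range 8).map fun m => (if m = 0 then 1 else 0) + 2 * chevE8.cartan m r)) = true := by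
  decide +kernel

theorem scan_S_one : baseL 0 ∈ topKeysS ∧ (baseL 0).map (fun x => -x) ∈ topKeysS := by
  decide +kernel

theorem scan_T : ((List.range 240).all fun r =>
    !((List.range 8).all fun m => (cfE r m - ([2, 3, 4, 6, 5, 4, 3, 2] : List ℤ).getD m 0) % 2 == 0) ||
      topKeysT.contains ((List.range 8).map fun m => chevE8.cartan m r)) = true := by
  decide +kernel

end Cfsg.Agent.H37.OddInv.E8
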