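import Cfsg.Agent.H37.OddInv.E8Red
import Cfsg.Agent.H37.OddInv.E8Masks
import Cfsg.Agent.H37.OddInv.E8Scan

/-!
The two classes of involutions of `E₈(q)`, `q` odd, and their centraliser orders.
-/

set_option autoImplicit false
set_option maxRecDepth 100000
set_option Elab.async false
set_option linter.unusedSectionVars false
set_option linter.style.haveILetI false

namespace Cfsg.Agent.H37.OddInv.E8

open Cfsg.Lie Cfsg.Agent.H37 Cfsg.Agent.H37.RootSys Cfsg.Agent.H37.Weyl

variable {F : Type*} [Field F]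

theorem evenB_iff (v : ℕ → ℤ) {r : ℕ} (hr : r < chevE8.nroots) :
    evenB chevE8 v r = true ↔ Even (B (fun m : Fin 8 => v m.val) (cv r)) := by
  simp only [evenB, beq_iff_eq, Int.even_iff]
  rw [Chevalley.list_sum_range_map, rank_e8, ← Fin.sum_univ_eq_sum_range (fun m => v m * chevE8.cartan m r)]
  simp only [B, cartan_cv _ hr]

theorem sum_range8 (f : ℕ → ℤ) : ((List.range 8).map f).sum = ∑ m : Fin 8, f m.val := by
  rw [Chevalley.list_sum_range_map, ← Fin.sum_univ_eq_sum_range f]

/-- Even parts modulo two. -/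
theorem even_sum_mul {c d : Vc} (h : ∀ m, Even (d m)) : Even (∑ m, c m * d m) :=
  Finset.even_sum _ fun m _ => (h m).mul_left _

theorem evenB_eq_pE {mask : ℕ} (p : Fin 8)
    (h : ∀ m : Fin 8, (av (fun k => vecM mask k.val) m - if m = p then 1 else 0) % 2 = 0) {r : ℕ}
    (hr : r < chevE8.nroots) : evenB chevE8 (vecM mask) r = pE p.val r := by
  rw [Bool.eq_iff_iff, evenB_iff _ hr]
  have e : B (fun m : Fin 8 => vecM mask m.val) (cv r) - cv r p
      = ∑ m, cv r m * (av (fun k => vecM mask k.val) m - if m = p then 1 else 0) := by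
    rw [B_symm]
    simp [B, mul_sub, Finset.sum_sub_distrib]
  have he : Even (B (fun m : Fin 8 => vecM mask m.val) (cv r) - cv r p) :=
    e ▸ even_sum_mul fun m => Int.even_iff.2 (h m)
  rw [Int.even_sub.1 he, Int.even_iff]
  simp [pE, cv]

/-- The representative of `w` conjugates one involution to another. -/
theorem invol_isConj (w : WE F) {v v' : ℕ → ℤ}
    (hf : ∀ i < chevE8.rank,
      evenB chevE8 v' (rho (Qd F) w (chevE8.simple i)) = evenB chevE8 v (chevE8.simple i)) :
    IsConj (invol (Qd F) v) (invol (Qd F) v') := by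
  set n := (Qd F).sys.rep w
  set s := invol (Qd F) v
  set s' := invol (Qd F) v'
  have hd : n⁻¹ * s' * n * s⁻¹ ∈ (Qd F).amb.H :=
    mul_mem ((Qd F).amb.n_conj_H' w (invol_mem (Qd F) v')) (inv_mem (invol_mem (Qd F) v))
  obtain ⟨c, hc⟩ := exists_tg (Qd F) hd
  have h1 : tg (Qd F) c = 1 := by
    refine tg_eq_one (Qd F) fun i hi => ?_
    have hs := ((Qd F).K.simple_lt i hi).1
    obtain ⟨l, hl⟩ := Acts.rep (Qd F) w (chevE8.simple i) hs
    have e := tg_conj (Qd F) hs c (1 : F)
    rw [hc] at e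
    have e1 : s⁻¹ * xg (Qd F) (chevE8.simple i) 1 * s⁻¹⁻¹
        = xg (Qd F) (chevE8.simple i) (if evenB chevE8 v (chevE8.simple i) then 1 else -1) := by
      rw [inv_eq_of_mul_eq_one_right (invol_sq (Qd F) v)]
      exact invol_conj (Qd F) v hs 1
    have e2 : n * (n⁻¹ * s' * n * s⁻¹ * xg (Qd F) (chevE8.simple i) 1 * (n⁻¹ * s' * n * s⁻¹)⁻¹) * n⁻¹
        = n * xg (Qd F) (chevE8.simple i) 1 * n⁻¹ := by
      rw [show n * (n⁻¹ * s' * n * s⁻¹ * xg (Qd F) (chevE8.simple i) 1 * (n⁻¹ * s' * n * s⁻¹)⁻¹) * n⁻¹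
        = s' * (n * (s⁻¹ * xg (Qd F) (chevE8.simple i) 1 * s⁻¹⁻¹) * n⁻¹) * s'⁻¹ by group, e1, hl, hl,
        invol_conj (Qd F) v' (rho_lt (Qd F) w hs), hf i hi]
      split <;> simp
    rw [e, hl, hl] at e2
    refine Units.ext ?_
    have := xg_inj (Qd F) (rho_lt (Qd F) w hs) e2
    simpa using this
  rw [h1] at hc
  refine isConj_iff.2 ⟨n, ?_⟩
  calc n * s * n⁻¹ = n * (n⁻¹ * s' * n * s⁻¹) * s * n⁻¹ := by rw [← hc, mul_one]
    _ = s' := by group

theorem parity_edge {md i mp : ℕ} (hi : i < 8) (h : parityB (md, i, mp) = true) :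
    IsConj (invol (Qd F) (vecM mp)) (invol (Qd F) (vecM md)) := by
  refine invol_isConj (si ⟨i, hi⟩) fun j hj => ?_
  simp only [parityB, Bool.or_eq_true, beq_iff_eq, List.all_eq_true, List.mem_range] at h
  have h' := (h.resolve_left (by omega)) j hj
  rw [sum_range8, sum_range8] at h'
  have hr := rho_lt (Qd F) (si (F := F) ⟨i, hi⟩) (simple_lt ⟨j, hj⟩)
  rw [Bool.eq_iff_iff, evenB_iff _ hr, evenB_iff _ (simple_lt ⟨j, hj⟩)]
  refine Int.even_sub.1 ?_
  rw [rho_lin _ _ (simple_lt ⟨j, hj⟩), cv_simple ⟨j, hj⟩, lin_si, Int.even_iff, ← h']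
  congr 1
  simp [B, av, Pi.single_apply, cmN_check ⟨i, hi⟩ ⟨j, hj⟩, mul_sub]
  simp only [← cmN_check, mul_comm (cmN _ i) (cmN i j)]

variable [Fintype F]

theorem tg_inj : Function.Injective (tg (Qd F)) := by
  have h := Chev.diag_E8 F
  rw [one_mul] at h
  exact (Chevalley.Weights.richOf (Qd F) h).tor_inj

theorem two_ne_zero_of_odd (hF : Odd (Fintype.card F)) : (2 : F) ≠ 0 := Ring.two_ne_zero fun h =>
  Nat.not_odd_iff_even.2 (Nat.even_iff.2 (FiniteField.even_card_iff_char_two.1 h)) hF

theorem z_order (hF : Odd (Fintype.card F)) (mask : ℕ) (hodd : ∃ m < 8, mask.testBit m = true) :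
    orderOf (invol (Qd F) (vecM mask)) = 2 := by
  refine orderOf_eq_prime (by rw [sq]; exact invol_sq _ _) fun h => ?_
  obtain ⟨m, hm, hev⟩ := hodd
  have h' := congrFun (tg_inj (h.trans (map_one (tg (Qd F))).symm)) ⟨m, hm⟩
  simp only [sgn, Pi.one_apply, vecM, hev, if_true, zpow_one] at h'
  exact one_ne_neg_one (two_ne_zero_of_odd hF) (by simpa using congrArg (Units.val : Fˣ → F) h'.symm)

theorem mask_class (hF : Odd (Fintype.card F)) {mask : ℕ} (h0 : mask ≠ 0) (hlt : mask < 256) :
    IsConj (invol (Qd F) (vecM mask)) (invol (Qd F) (vecM 6)) ∨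
      IsConj (invol (Qd F) (vecM mask)) (invol (Qd F) (vecM 82)) := by
  suffices H : ∀ (L : List (ℕ × ℕ × ℕ)) (seen : List ℕ), chkOrbit L seen = true →
      (∀ a ∈ seen, IsConj (invol (Qd F) (vecM a)) (invol (Qd F) (vecM 6)) ∨
        IsConj (invol (Qd F) (vecM a)) (invol (Qd F) (vecM 82))) →
      ∀ k < 256, k ≠ 0 → IsConj (invol (Qd F) (vecM k)) (invol (Qd F) (vecM 6)) ∨
        IsConj (invol (Qd F) (vecM k)) (invol (Qd F) (vecM 82)) from
    H edges [] orbit_check (by simp) mask hlt h0
  intro L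
  induction L with
  | nil =>
    intro seen h hs k hk hk0
    simp only [chkOrbit, List.all_eq_true, List.mem_range, Bool.or_eq_true, beq_iff_eq,
      List.contains_iff_mem] at h
    exact hs k ((h k hk).resolve_left hk0)
  | cons e L ih =>
    obtain ⟨md, i, mp⟩ := e
    intro seen h hs
    rw [chkOrbit, Bool.and_eq_true] at h
    refine ih (md :: seen) h.2 fun a ha => ?_
    rcases List.mem_cons.1 ha with rfl | ha
    · simp only [Bool.or_eq_true, Bool.and_eq_true, beq_iff_eq, decide_eq_true_eq,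
        List.contains_iff_mem] at h
      rcases h.1 with ⟨-, rfl | rfl⟩ | ⟨⟨hi, hmem⟩, hp⟩
      · exact Or.inl (IsConj.refl _)
      · exact Or.inr (IsConj.refl _)
      · have hc := (parity_edge (F := F) hi hp).symm
        exact (hs mp hmem).imp hc.trans hc.trans
    · exact hs a ha

theorem conj_class (hF : Odd (Fintype.card F)) {u : ↥(chevE8.group F)} (hu : orderOf u = 2) :
    IsConj u (invol (Qd F) (vecM 6)) ∨ IsConj u (invol (Qd F) (vecM 82)) := by
  have hu2 : u * u = 1 := by rw [← sq, ← hu, pow_orderOf_eq_one]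
  obtain ⟨m, hm, hm2, hum⟩ := exists_N_conj (Qd F) hF hu2
  obtain ⟨h, hh, hh2, hmh⟩ := exists_H_conj' (Qd F) hF
    (fun m w hm hsq hw h1 => reducible (two_ne_zero_of_odd hF) m w hm hsq hw h1) m hm hm2
  obtain ⟨c, rfl⟩ := exists_tg (Qd F) hh
  have huc := hum.trans hmh
  have hc : c * c = 1 := tg_inj (by rw [map_mul, hh2, map_one])
  classical
  set S := (Finset.range 8).filter fun i => ∃ h : i < (Qd F).X.n, c ⟨i, h⟩ = -1 with hS
  set mask := ∑ i ∈ S, 2 ^ i with hmask
  have hbit' : ∀ i : ℕ, mask.testBit i = true ↔ i ∈ S := fun i => by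
    rw [← Nat.mem_bitIndices, ← List.mem_toFinset, hmask, Finset.toFinset_bitIndices_sum_two_pow]
  have hbit : ∀ i : Fin (Qd F).X.n, mask.testBit i.val = true ↔ c i = -1 := fun i => by
    rw [hbit', hS, Finset.mem_filter, Finset.mem_range]
    exact ⟨fun ⟨_, _, e⟩ => e, fun e => ⟨i.isLt, i.isLt, e⟩⟩
  have hlt : mask < 256 := Nat.lt_pow_two_of_testBit (n := 8) mask fun i hi => by
    by_contra hne
    rw [Bool.not_eq_false, hbit', hS, Finset.mem_filter, Finset.mem_range] at hne
    omega
  have hcase : ∀ i : Fin (Qd F).X.n, c i = 1 ∨ c i = -1 := fun i => by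
    have e : (c i : F) * (c i : F) = 1 := by
      have h1 := congrArg (Units.val : Fˣ → F) (congrFun hc i)
      simpa only [Pi.mul_apply, Pi.one_apply, Units.val_mul, Units.val_one] using h1
    rcases mul_self_eq_one_iff.1 e with h | h
    · exact Or.inl (Units.ext h)
    · exact Or.inr (Units.ext h)
  have e : c = sgn (Qd F) (vecM mask) := funext fun i => by
    simp only [sgn, vecM]
    rcases hcase i with e | e
    · have hb : mask.testBit i.val = false := by
        by_contra hne
        have := (hbit i).1 (by simpa using hne)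
        exact one_ne_neg_one (two_ne_zero_of_odd hF)
          (by simpa using congrArg (Units.val : Fˣ → F) (e.symm.trans this))
      simp [hb, e]
    · simp [(hbit i).2 e, e]
  by_cases h0 : mask = 0
  · exfalso
    have hc1 : c = 1 := funext fun i => (hcase i).resolve_right fun e => by
      have := (hbit i).2 e
      rw [h0] at this
      simp at this
    have hu1 : IsConj u 1 := by rwa [hc1, map_one] at huc
    obtain ⟨g, hg⟩ := isConj_iff.1 hu1
    rw [mul_inv_eq_one, mul_eq_left] at hg
    simp [hg] at hu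
  · rw [e] at huc
    exact (mask_class hF h0 hlt).imp huc.trans huc.trans

/-! ### The centralisers -/

/-- The parity of the coordinate `p` is kept. -/
def Par (p : Fin 8) (w : WE F) : Prop := ∀ c, Even (lin w c p - c p)

theorem Par.mul {p : Fin 8} {v w : WE F} (hv : Par p v) (hw : Par p w) : Par p (v * w) := fun c => by
  rw [lin_mul, show lin v (lin w c) p - c p = (lin v (lin w c) p - lin w c p) + (lin w c p - c p) by
    ring]
  exact (hv _).add (hw c)

theorem Par.inv {p : Fin 8} {w : WE F} (hw : Par p w) : Par p w⁻¹ := fun c => by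
  have h := hw (lin w⁻¹ c)
  rw [← lin_mul, mul_inv_cancel, lin_one] at h
  rw [show lin w⁻¹ c p - c p = -(c p - lin w⁻¹ c p) by ring]
  exact h.neg

theorem fixes_iff {mask : ℕ} (p : Fin 8)
    (hm : ∀ r < chevE8.nroots, evenB chevE8 (vecM mask) r = pE p.val r) (w : WE F) :
    Fixes (Qd F) (vecM mask) w ↔ Par p w := by
  have key : ∀ j : Fin 8, evenB chevE8 (vecM mask) (rho (Qd F) w (chevE8.simple j.val))
        = evenB chevE8 (vecM mask) (chevE8.simple j.val) ↔
      Even (lin w (Pi.single j 1) p - (Pi.single j 1 : Vc) p) := fun j => by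
    rw [hm _ (rho_lt (Qd F) w (simple_lt j)), hm _ (simple_lt j), lin_single, ← cv_simple,
      Int.even_sub, Int.even_iff, Int.even_iff, Bool.eq_iff_iff]
    simp [pE, cv]
  constructor
  · intro h c
    have e : lin w c p - c p
        = ∑ j, c j * (lin w (Pi.single j 1) p - (Pi.single j 1 : Vc) p) := by
      simp only [lin_single, mul_sub, Finset.sum_sub_distrib]
      simp [lin, Pi.single_apply]
    rw [e]
    exact even_sum_mul fun j => (key j).1 (h j.val j.isLt)
  · intro h i hi
    exact (key ⟨i, hi⟩).2 (h _)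

theorem kl_eq (p : Fin 8) (g : WE F) :
    kl p.val g = (List.range 8).map fun m =>
      if hm : m < 8 then av (lin g⁻¹ (gv (Pi.single p 1))) ⟨m, hm⟩ else 0 := by
  refine List.map_congr_left fun m hm => ?_
  rw [List.mem_range] at hm
  rw [dif_pos hm, ← B_single, ← lin_B g, ← lin_mul, mul_inv_cancel, lin_one, lin_single]
  show cv _ p = _
  simp [B, av_gv, Pi.single_apply]

/-- The possible images of a coweight under the fixers. -/
theorem par_image {p : Fin 8} {g : WE F} (hg : Par p g) :
    ∃ z : Vc, lin g⁻¹ (gv (Pi.single p 1)) = gv (Pi.single p 1) + (2 : ℤ) • z := by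
  set ω := gv (Pi.single p 1) with hω
  set y := lin g⁻¹ ω
  have hev : ∀ m, Even (av (y - ω) m) := fun m => by
    have h := hg (Pi.single m 1)
    have e1 : av y m = lin g (Pi.single m 1) p := by
      rw [← B_single, ← lin_B g, ← lin_mul, mul_inv_cancel, lin_one]
      simp [B, hω, av_gv, Pi.single_apply]
    rw [show av (y - ω) m = av y m - av ω m by
      rw [sub_eq_add_neg, av_add, ← neg_one_smul ℤ, av_smul]; simp [sub_eq_add_neg], e1, hω, av_gv]
    rwa [show (Pi.single p 1 : Vc) m = (Pi.single m 1 : Vc) p by simp [Pi.single_apply, eq_comm]]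
  refine ⟨gv (fun m => av (y - ω) m / 2), ?_⟩
  have : y - ω = (2 : ℤ) • gv (fun m => av (y - ω) m / 2) := av_inj (by
    rw [av_smul, av_gv]
    funext m
    exact (Int.mul_ediv_cancel' (hev m).two_dvd).symm)
  rw [← this]
  abel

theorem cover_T {g : WE F} (hg : Par 7 g) : kl (7 : Fin 8).val g ∈ topKeysT := by
  obtain ⟨z, hz⟩ := par_image hg
  set θ := gv (Pi.single (7 : Fin 8) 1) with hθ
  have hnorm : B θ θ = 2 := by rw [hθ]; decide
  obtain ⟨r, hr, hry⟩ := root_of_norm _ ((lin_B g⁻¹ θ θ).trans hnorm)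
  rw [kl_eq, ← hθ, ← hry]
  have h := List.all_eq_true.1 scan_T r (List.mem_range.2 (nroots_e8 ▸ hr))
  have hcond : ((List.range 8).all fun m =>
      (cfE r m - ([2, 3, 4, 6, 5, 4, 3, 2] : List ℤ).getD m 0) % 2 == 0) = true := by
    simp only [List.all_eq_true, List.mem_range, beq_iff_eq]
    intro m hm
    have e := congrFun (hry.trans hz) ⟨m, hm⟩
    have eθ : ∀ k : Fin 8, ([2, 3, 4, 6, 5, 4, 3, 2] : List ℤ).getD k.val 0 = θ k := by
      rw [hθ]; decide
    rw [eθ ⟨m, hm⟩, show cfE r m = cv r ⟨m, hm⟩ from rfl, e]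
    simp
  rw [hcond] at h
  simp only [Bool.not_true, Bool.false_or, List.contains_iff_mem] at h
  convert h using 1
  refine List.map_congr_left fun m hm => ?_
  rw [List.mem_range] at hm
  rw [dif_pos hm, cartan_cv ⟨m, hm⟩ hr]

theorem cover_S {g : WE F} (hg : Par 0 g) : kl (0 : Fin 8).val g ∈ topKeysS := by
  obtain ⟨z, hz⟩ := par_image hg
  set ω := gv (Pi.single (0 : Fin 8) 1) with hω
  have hnorm : B ω ω = 4 := by rw [hω]; decide
  rw [kl_eq, ← hω, hz]
  have h := (lin_B g⁻¹ ω ω)
  rw [hz, hnorm] at h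
  simp only [B_add_left, B_add_right, B_smul_left, B_smul_right, hnorm] at h
  rw [B_symm z ω] at h
  have hzw : B (z + ω) (z + ω) = 4 - B z z := by
    simp only [B_add_left, B_add_right, hnorm]; rw [B_symm z ω]; omega
  have := B_nonneg (z + ω)
  have := B_nonneg z
  obtain ⟨k, hk⟩ := B_even z
  have hav : ∀ m : Fin 8, av (ω + (2 : ℤ) • z) m = (if m = 0 then 1 else 0) + 2 * av z m := fun m => by
    rw [av_add, av_smul, hω, av_gv]
    simp [Pi.single_apply]
  rcases (show B z z = 0 ∨ B z z = 2 ∨ B z z = 4 by omega) with h0 | h0 | h0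
  · obtain rfl := B_eq_zero h0
    convert scan_S_one.1 using 1
    refine List.map_congr_left fun m hm => ?_
    rw [List.mem_range] at hm
    rw [dif_pos hm, hav]
    simp [av, Fin.ext_iff]
  · obtain ⟨r, hr, rfl⟩ := root_of_norm z h0
    have hs := List.all_eq_true.1 scan_S r (List.mem_range.2 (nroots_e8 ▸ hr))
    have hc : cfE r 0 = -2 := by
      have e : B ω (cv r) = cv r 0 := by
        rw [B_symm, hω]
        simp [B, av_gv, Pi.single_apply]
      show cv r 0 = -2
      omega
    rw [hc] at hs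
    simp only [beq_self_eq_true, Bool.not_true, Bool.false_or, List.contains_iff_mem] at hs
    convert hs using 1
    refine List.map_congr_left fun m hm => ?_
    rw [List.mem_range] at hm
    rw [dif_pos hm, hav, cartan_cv ⟨m, hm⟩ hr]
    simp [Fin.ext_iff]
  · have : z + ω = 0 := B_eq_zero (by omega)
    obtain rfl : z = -ω := eq_neg_of_add_eq_zero_left this
    convert scan_S_one.2 using 1
    rw [baseL, List.map_map]
    refine List.map_congr_left fun m hm => ?_
    rw [List.mem_range] at hm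
    rw [dif_pos hm, hav, ← neg_one_smul ℤ ω, av_smul, hω, av_gv]
    simp [Pi.single_apply, Fin.ext_iff]
    split <;> rfl

open Classical in
theorem card_cent (hF : Odd (Fintype.card F)) (p : Fin 8) {mask n : ℕ} {C : List Lv}
    {top : List (List ℕ)} {keys : List (List ℤ)} {degs : List ℕ}
    (hm : ∀ m : Fin 8, (av (fun k => vecM mask k.val) m - if m = p then 1 else 0) % 2 = 0)
    (hn : ((List.range 240).countP fun r => decide (120 ≤ r) && pE p.val r) = n)
    (hC : chkChain p.val C = true) (htop : chkReps p.val (C.map Lv.i0) top keys = true)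
    (hall : ∀ m : Fin 8, m.val ∉ C.map Lv.i0 → m = p)
    (hfix : (top.all fun u => (List.range 8).all fun m =>
      pE p.val (certE8.act u (chevE8.simple m)) == pE p.val (chevE8.simple m)) = true)
    (hcover : ∀ g : WE F, Par p g → kl p.val g ∈ keys)
    (hpoly : ((top :: C.map Lv.reps).map fun R => (R.map (wtA p.val)).foldr bumpC []).foldr mulC [1]
      = (degs.map fun d => List.replicate d 1).foldr mulC [1]) :
    Nat.card (Subgroup.centralizer ({invol (Qd F) (vecM mask)} : Set ↥(chevE8.group F))) =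
      Fintype.card F ^ n * (Fintype.card F - 1) ^ 8 *
        (degs.map fun d => ∑ i ∈ Finset.range d, Fintype.card F ^ i).prod := by
  haveI := (Qd F).X.good.finite
  haveI : Fintype (WE F) := Fintype.ofFinite _
  have hmr := fun r (hr : r < chevE8.nroots) => evenB_eq_pE p hm hr
  rw [card_centralizer (Qd F) (two_ne_zero_of_odd hF)]
  have hd := Chev.diag_E8 F
  rw [one_mul] at hd
  rw [hd, Nat.card_eq_fintype_card (α := F), posB_eq (D := chevE8)]
  have hposB : posB chevE8 (vecM mask) = n := by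
    rw [← hn, posB, nroots_e8]
    exact List.countP_congr fun r hr => by rw [hmr r (nroots_e8 ▸ List.mem_range.1 hr)]
  rw [hposB]
  congr 1
  set q := Fintype.card F
  have hterm : ∀ w : WE F,
      (if Fixes (Qd F) (vecM mask) w then
        q ^ ((Sys.flip (Qd F).X.good w).filter fun r => evenB chevE8 (vecM mask) r = true).card else 0)
      = if Par p w then q ^ wt p.val w else 0 := by
    intro w
    rw [wt, Finset.filter_congr fun r hr => by rw [hmr r (Sys.mem_flip.1 hr).1]]
    exact if_congr (fixes_iff p hmr w) rfl rfl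
  rw [Finset.sum_congr rfl fun w _ => hterm w]
  have hchk := htop
  simp only [chkReps, Bool.and_eq_true, List.all_eq_true, decide_eq_true_eq] at hchk
  have hp : p.val ∉ C.map Lv.i0 := hchk.1.2
  rw [split_sum q p (Par p) hp p htop (fun hv hw => hv.mul hw) (fun hw => hw.inv)
    (fun hx c => by rw [hx p hp c, sub_self]; exact Even.zero)
    (fun hx h0 m hm' c => by rw [hall m hm']; exact h0 c) (fun u hu => ?_) (hcover _), chain_sum q p C hC]
  · have h := congrArg (evalC q) hpoly
    rw [evalC_prod, evalC_prod, List.map_map, List.map_map, List.map_cons, List.map_map,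
      List.prod_cons] at h
    simp only [Function.comp_apply, evalC_exps, List.map_map] at h
    simp only [Function.comp_def, evalC_exps, evalC_ones, List.map_map] at h
    exact h
  · rw [← fixes_iff p hmr]
    intro i hi
    have hu8 := ((hchk.1.1.1.1) u hu).1
    rw [hmr _ (rho_lt _ _ (simple_lt ⟨i, hi⟩)), hmr _ (simple_lt ⟨i, hi⟩),
      rho_wd hu8 (simple_lt ⟨i, hi⟩)]
    exact beq_iff_eq.1 (List.all_eq_true.1 (List.all_eq_true.1 hfix u hu) i (List.mem_range.2 hi))

theorem geom (q d : ℕ) (hq : 1 ≤ q) : (q - 1) * ∑ i ∈ Finset.range d, q ^ i = q ^ d - 1 := by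
  obtain ⟨k, rfl⟩ : ∃ k, q = k + 1 := ⟨q - 1, by omega⟩
  have h := geom_sum_mul_add k d
  rw [Nat.add_sub_cancel, mul_comm]
  omega

theorem card_s (hF : Odd (Fintype.card F)) :
    Nat.card (Subgroup.centralizer ({invol (Qd F) (vecM 6)} : Set ↥(chevE8.group F))) =
      Fintype.card F ^ 56 * (Fintype.card F ^ 8 - 1) *
        ∏ i ∈ Finset.Icc 1 7, (Fintype.card F ^ (2 * i) - 1) := by
  rw [card_cent hF 0 mask_S pos_S chk_chainS chk_topS (by decide +kernel) fix_topS
    (fun g hg => cover_S hg) polyS]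
  have hq : 1 ≤ Fintype.card F := Fintype.card_pos
  rw [show Finset.Icc 1 7 = ({1, 2, 3, 4, 5, 6, 7} : Finset ℕ) by decide]
  simp only [Finset.prod_insert, Finset.mem_insert, Finset.mem_singleton, Finset.prod_singleton,
    OfNat.one_ne_ofNat, not_false_eq_true, or_self, Nat.reduceEqDiff, Nat.reduceMul,
    List.map_cons, List.map_nil, List.prod_cons, List.prod_nil]
  rw [← geom _ 2 hq, ← geom _ 4 hq, ← geom _ 6 hq, ← geom _ 8 hq, ← geom _ 10 hq, ← geom _ 12 hq,
    ← geom _ 14 hq]
  ring

theorem card_t (hF : Odd (Fintype.card F)) :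
    Nat.card (Subgroup.centralizer ({invol (Qd F) (vecM 82)} : Set ↥(chevE8.group F))) =
      Fintype.card F ^ 64 * (Fintype.card F ^ 2 - 1) ^ 2 * (Fintype.card F ^ 6 - 1) *
        (Fintype.card F ^ 8 - 1) * (Fintype.card F ^ 10 - 1) * (Fintype.card F ^ 12 - 1) *
        (Fintype.card F ^ 14 - 1) * (Fintype.card F ^ 18 - 1) := by
  rw [card_cent hF 7 mask_T pos_T chk_chainT chk_topT (by decide +kernel) fix_topT
    (fun g hg => cover_T hg) polyT]
  have hq : 1 ≤ Fintype.card F := Fintype.card_pos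
  rw [← geom _ 2 hq, ← geom _ 6 hq, ← geom _ 8 hq, ← geom _ 10 hq, ← geom _ 12 hq, ← geom _ 14 hq,
    ← geom _ 18 hq]
  simp only [List.map_cons, List.map_nil, List.prod_cons, List.prod_nil]
  ring

end Cfsg.Agent.H37.OddInv.E8
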