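import Cfsg.Agent.H37.OddInv.E8Parab

/-! Machine-generated representatives (see `E8Parab.lean`). -/

set_option autoImplicit false
set_option maxRecDepth 100000
set_option Elab.async false

namespace Cfsg.Agent.H37.OddInv.E8

open Cfsg.Lie Cfsg.Agent.H37 Cfsg.Agent.H37.RootSys Cfsg.Agent.H37.Weyl

/-- A level. -/
def lvS0 : Lv where
  i0 := 7
  reps := [[], [7], [6, 7], [5, 6, 7], [4, 5, 6, 7], [3, 4, 5, 6, 7], [2, 3, 4, 5, 6, 7], [1, 3, 4, 5, 6, 7], 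
      [1, 2, 3, 4, 5, 6, 7], [3, 1, 2, 3, 4, 5, 6, 7], [4, 3, 1, 2, 3, 4, 5, 6, 7], 
      [5, 4, 3, 1, 2, 3, 4, 5, 6, 7], [6, 5, 4, 3, 1, 2, 3, 4, 5, 6, 7], 
      [7, 6, 5, 4, 3, 1, 2, 3, 4, 5, 6, 7]]
  keys := [[0, 0, 0, 0, 0, 0, 0, 1], [0, 0, 0, 0, 0, 0, 1, -1], [0, 0, 0, 0, 0, 1, -1, 0], 
      [0, 0, 0, 0, 1, -1, 0, 0], [0, 0, 0, 1, -1, 0, 0, 0], [0, 1, 1, -1, 0, 0, 0, 0], 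
      [1, 1, -1, 0, 0, 0, 0, 0], [0, -1, 1, 0, 0, 0, 0, 0], [1, -1, -1, 1, 0, 0, 0, 0], 
      [1, 0, 0, -1, 1, 0, 0, 0], [1, 0, 0, 0, -1, 1, 0, 0], [1, 0, 0, 0, 0, -1, 1, 0], 
      [1, 0, 0, 0, 0, 0, -1, 1], [1, 0, 0, 0, 0, 0, 0, -1]]

/-- A level. -/
def lvS1 : Lv where
  i0 := 6
  reps := [[], [6], [5, 6], [4, 5, 6], [3, 4, 5, 6], [2, 3, 4, 5, 6], [1, 3, 4, 5, 6], [1, 2, 3, 4, 5, 6], 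
      [3, 1, 2, 3, 4, 5, 6], [4, 3, 1, 2, 3, 4, 5, 6], [5, 4, 3, 1, 2, 3, 4, 5, 6], 
      [6, 5, 4, 3, 1, 2, 3, 4, 5, 6]]
  keys := [[0, 0, 0, 0, 0, 0, 1, 0], [0, 0, 0, 0, 0, 1, -1, 1], [0, 0, 0, 0, 1, -1, 0, 1], 
      [0, 0, 0, 1, -1, 0, 0, 1], [0, 1, 1, -1, 0, 0, 0, 1], [1, 1, -1, 0, 0, 0, 0, 1], 
      [0, -1, 1, 0, 0, 0, 0, 1], [1, -1, -1, 1, 0, 0, 0, 1], [1, 0, 0, -1, 1, 0, 0, 1], 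
      [1, 0, 0, 0, -1, 1, 0, 1], [1, 0, 0, 0, 0, -1, 1, 1], [1, 0, 0, 0, 0, 0, -1, 2]]

/-- A level. -/
def lvS2 : Lv where
  i0 := 5
  reps := [[], [5], [4, 5], [3, 4, 5], [2, 3, 4, 5], [1, 3, 4, 5], [1, 2, 3, 4, 5], [3, 1, 2, 3, 4, 5], 
      [4, 3, 1, 2, 3, 4, 5], [5, 4, 3, 1, 2, 3, 4, 5]]
  keys := [[0, 0, 0, 0, 0, 1, 0, 0], [0, 0, 0, 0, 1, -1, 1, 0], [0, 0, 0, 1, -1, 0, 1, 0], 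
      [0, 1, 1, -1, 0, 0, 1, 0], [1, 1, -1, 0, 0, 0, 1, 0], [0, -1, 1, 0, 0, 0, 1, 0], 
      [1, -1, -1, 1, 0, 0, 1, 0], [1, 0, 0, -1, 1, 0, 1, 0], [1, 0, 0, 0, -1, 1, 1, 0], 
      [1, 0, 0, 0, 0, -1, 2, 0]]

/-- A level. -/
def lvS3 : Lv where
  i0 := 4
  reps := [[], [4], [3, 4], [2, 3, 4], [1, 3, 4], [1, 2, 3, 4], [3, 1, 2, 3, 4], [4, 3, 1, 2, 3, 4]]
  keys := [[0, 0, 0, 0, 1, 0, 0, 0], [0, 0, 0, 1, -1, 1, 0, 0], [0, 1, 1, -1, 0, 1, 0, 0], 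
      [1, 1, -1, 0, 0, 1, 0, 0], [0, -1, 1, 0, 0, 1, 0, 0], [1, -1, -1, 1, 0, 1, 0, 0], 
      [1, 0, 0, -1, 1, 1, 0, 0], [1, 0, 0, 0, -1, 2, 0, 0]]

/-- A level. -/
def lvS4 : Lv where
  i0 := 3
  reps := [[], [3], [2, 3], [1, 3], [1, 2, 3], [3, 1, 2, 3]]
  keys := [[0, 0, 0, 1, 0, 0, 0, 0], [0, 1, 1, -1, 1, 0, 0, 0], [1, 1, -1, 0, 1, 0, 0, 0], 
      [0, -1, 1, 0, 1, 0, 0, 0], [1, -1, -1, 1, 1, 0, 0, 0], [1, 0, 0, -1, 2, 0, 0, 0]]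

/-- A level. -/
def lvS5 : Lv where
  i0 := 2
  reps := [[], [2]]
  keys := [[0, 0, 1, 0, 0, 0, 0, 0], [1, 0, -1, 1, 0, 0, 0, 0]]

/-- A level. -/
def lvS6 : Lv where
  i0 := 1
  reps := [[], [1]]
  keys := [[0, 1, 0, 0, 0, 0, 0, 0], [0, -1, 0, 1, 0, 0, 0, 0]]

/-- The chain. -/
def chainS : List Lv := [lvS0, lvS1, lvS2, lvS3, lvS4, lvS5, lvS6]

/-- The representatives at the top. -/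
def topS : List (List ℕ) :=
  [[], 
      [0, 2, 3, 4, 5, 1, 3, 4, 2, 3, 0, 2, 1, 3, 4, 5, 6, 5, 4, 3, 2, 1, 3, 4, 5, 0, 2, 3, 4, 1, 3, 2, 0], 
      [7, 0, 2, 3, 4, 5, 1, 3, 4, 2, 3, 0, 2, 1, 3, 4, 5, 6, 5, 4, 3, 2, 1, 3, 4, 5, 0, 2, 3, 4, 1, 3, 2, 0], 
      [6, 7, 0, 2, 3, 4, 5, 1, 3, 4, 2, 3, 0, 2, 1, 3, 4, 5, 6, 5, 4, 3, 2, 1, 3, 4, 5, 0, 2, 3, 4, 1, 3, 2, 0], 
      [5, 6, 7, 0, 2, 3, 4, 5, 1, 3, 4, 2, 3, 0, 2, 1, 3, 4, 5, 6, 5, 4, 3, 2, 1, 3, 4, 5, 0, 2, 3, 4, 1, 3, 2, 0], 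
      [4, 5, 6, 7, 0, 2, 3, 4, 5, 1, 3, 4, 2, 3, 0, 2, 1, 3, 4, 5, 6, 5, 4, 3, 2, 1, 3, 4, 5, 0, 2, 3, 4, 1, 3, 2, 0], 
      [3, 4, 5, 6, 7, 0, 2, 3, 4, 5, 1, 3, 4, 2, 3, 0, 2, 1, 3, 4, 5, 6, 5, 4, 3, 2, 1, 3, 4, 5, 0, 2, 3, 4, 1, 3, 2, 0], 
      [1, 3, 4, 5, 6, 7, 0, 2, 3, 4, 5, 1, 3, 4, 2, 3, 0, 2, 1, 3, 4, 5, 6, 5, 4, 3, 2, 1, 3, 4, 5, 0, 2, 3, 4, 1, 3, 2, 0], 
      [2, 3, 4, 5, 6, 7, 0, 2, 3, 4, 5, 1, 3, 4, 2, 3, 0, 2, 1, 3, 4, 5, 6, 5, 4, 3, 2, 1, 3, 4, 5, 0, 2, 3, 4, 1, 3, 2, 0], 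
      [2, 1, 3, 4, 5, 6, 7, 0, 2, 3, 4, 5, 1, 3, 4, 2, 3, 0, 2, 1, 3, 4, 5, 6, 5, 4, 3, 2, 1, 3, 4, 5, 0, 2, 3, 4, 1, 3, 2, 0], 
      [3, 2, 1, 3, 4, 5, 6, 7, 0, 2, 3, 4, 5, 1, 3, 4, 2, 3, 0, 2, 1, 3, 4, 5, 6, 5, 4, 3, 2, 1, 3, 4, 5, 0, 2, 3, 4, 1, 3, 2, 0], 
      [4, 3, 2, 1, 3, 4, 5, 6, 7, 0, 2, 3, 4, 5, 1, 3, 4, 2, 3, 0, 2, 1, 3, 4, 5, 6, 5, 4, 3, 2, 1, 3, 4, 5, 0, 2, 3, 4, 1, 3, 2, 0], 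
      [5, 4, 3, 2, 1, 3, 4, 5, 6, 7, 0, 2, 3, 4, 5, 1, 3, 4, 2, 3, 0, 2, 1, 3, 4, 5, 6, 5, 4, 3, 2, 1, 3, 4, 5, 0, 2, 3, 4, 1, 3, 2, 0], 
      [6, 5, 4, 3, 2, 1, 3, 4, 5, 6, 7, 0, 2, 3, 4, 5, 1, 3, 4, 2, 3, 0, 2, 1, 3, 4, 5, 6, 5, 4, 3, 2, 1, 3, 4, 5, 0, 2, 3, 4, 1, 3, 2, 0], 
      [7, 6, 5, 4, 3, 2, 1, 3, 4, 5, 6, 7, 0, 2, 3, 4, 5, 1, 3, 4, 2, 3, 0, 2, 1, 3, 4, 5, 6, 5, 4, 3, 2, 1, 3, 4, 5, 0, 2, 3, 4, 1, 3, 2, 0], 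
      [0, 2, 3, 4, 5, 1, 3, 4, 2, 3, 0, 2, 1, 3, 4, 5, 6, 7, 5, 4, 3, 2, 1, 3, 4, 5, 6, 0, 2, 3, 4, 5, 1, 3, 4, 2, 3, 0, 2, 1, 3, 4, 5, 6, 7, 0, 2, 3, 4, 5, 1, 3, 4, 2, 3, 0, 2, 1, 3, 4, 5, 6, 5, 4, 3, 2, 1, 3, 4, 5, 0, 2, 3, 4, 1, 3, 2, 0]]

/-- Their keys. -/
def topKeysS : List (List ℤ) :=
  [[1, 0, 0, 0, 0, 0, 0, 0], [-1, 0, 0, 0, 0, 0, 0, 2], [-1, 0, 0, 0, 0, 0, 2, -2], 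
      [-1, 0, 0, 0, 0, 2, -2, 0], [-1, 0, 0, 0, 2, -2, 0, 0], [-1, 0, 0, 2, -2, 0, 0, 0], 
      [-1, 2, 2, -2, 0, 0, 0, 0], [-1, -2, 2, 0, 0, 0, 0, 0], [1, 2, -2, 0, 0, 0, 0, 0], 
      [1, -2, -2, 2, 0, 0, 0, 0], [1, 0, 0, -2, 2, 0, 0, 0], [1, 0, 0, 0, -2, 2, 0, 0], 
      [1, 0, 0, 0, 0, -2, 2, 0], [1, 0, 0, 0, 0, 0, -2, 2], [1, 0, 0, 0, 0, 0, 0, -2], 
      [-1, 0, 0, 0, 0, 0, 0, 0]]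

theorem chk_lvS0 : chkLv 0 [6, 5, 4, 3, 2, 1] lvS0 = true := by decide +kernel

theorem chk_lvS1 : chkLv 0 [5, 4, 3, 2, 1] lvS1 = true := by decide +kernel

theorem chk_lvS2 : chkLv 0 [4, 3, 2, 1] lvS2 = true := by decide +kernel

theorem chk_lvS3 : chkLv 0 [3, 2, 1] lvS3 = true := by decide +kernel

theorem chk_lvS4 : chkLv 0 [2, 1] lvS4 = true := by decide +kernel

theorem chk_lvS5 : chkLv 0 [1] lvS5 = true := by decide +kernel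

theorem chk_lvS6 : chkLv 0 [] lvS6 = true := by decide +kernel

theorem chk_chainS : chkChain 0 chainS = true := by
  simp only [chainS, chkChain, List.map_cons, List.map_nil, Bool.and_true, Bool.and_eq_true]
  exact ⟨chk_lvS0, chk_lvS1, chk_lvS2, chk_lvS3, chk_lvS4, chk_lvS5, chk_lvS6⟩

theorem chk_topS :
    chkReps 0 (chainS.map Lv.i0) topS topKeysS = true := by
  decide +kernel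

theorem fix_topS : (topS.all fun u => (List.range 8).all fun m =>
    pE 0 (certE8.act u (chevE8.simple m)) == pE 0 (chevE8.simple m)) = true := by
  decide +kernel

/-- The polynomials of the factors. -/
theorem polyS : ((topS :: chainS.map Lv.reps).map fun R =>
      (R.map (wtA 0)).foldr bumpC []).foldr mulC [1]
    = ([2, 4, 6, 8, 10, 12, 14, 8].map fun d => List.replicate d 1).foldr mulC [1] := by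
  decide +kernel

end Cfsg.Agent.H37.OddInv.E8
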