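import Cfsg.Agent.H37.OddInv.Root
import Cfsg.Agent.H51.RootCentral

/-!
The root lattice of E₈: the form, roots as the vectors of norm two, and the linear action of the Weyl
group.
-/

set_option autoImplicit false
set_option maxRecDepth 100000
set_option Elab.async false

namespace Cfsg.Agent.H37.OddInv.E8

open Cfsg.Lie Cfsg.Agent.H37 Cfsg.Agent.H37.RootSys
open Cfsg.Agent.Chevalley (pairingSum)

/-- Integer vectors in the basis of fundamental roots. -/
abbrev Vc := Fin 8 → ℤ

/-- The coefficient function of the table. -/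
abbrev cfE : ℕ → ℕ → ℤ := Chevalley.E8.cert.cf

/-- The Cartan matrix. -/
def cm : Fin 8 → Fin 8 → ℤ :=
  ![![2, 0, -1, 0, 0, 0, 0, 0], ![0, 2, 0, -1, 0, 0, 0, 0], ![-1, 0, 2, -1, 0, 0, 0, 0],
    ![0, -1, -1, 2, -1, 0, 0, 0], ![0, 0, 0, -1, 2, -1, 0, 0], ![0, 0, 0, 0, -1, 2, -1, 0],
    ![0, 0, 0, 0, 0, -1, 2, -1], ![0, 0, 0, 0, 0, 0, -1, 2]]

/-- The inverse of the Cartan matrix. -/
def gm : Fin 8 → Fin 8 → ℤ :=
  ![![4, 5, 7, 10, 8, 6, 4, 2], ![5, 8, 10, 15, 12, 9, 6, 3], ![7, 10, 14, 20, 16, 12, 8, 4],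
    ![10, 15, 20, 30, 24, 18, 12, 6], ![8, 12, 16, 24, 20, 15, 10, 5],
    ![6, 9, 12, 18, 15, 12, 8, 4], ![4, 6, 8, 12, 10, 8, 6, 3], ![2, 3, 4, 6, 5, 4, 3, 2]]

/-- The Cartan matrix applied to a vector. -/
def av (c : Vc) : Vc := fun i => ∑ j, cm i j * c j

/-- The inverse of `av`. -/
def gv (c : Vc) : Vc := fun i => ∑ j, gm i j * c j

/-- The form. -/
def B (c d : Vc) : ℤ := ∑ i, c i * av d i

/-- The vector of a root. -/
def cv (r : ℕ) : Vc := fun i => cfE r i

theorem av_gv (c : Vc) : av (gv c) = c := by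
  funext i
  fin_cases i <;> simp [av, gv, cm, gm, Fin.sum_univ_eight] <;> ring

theorem B_symm (c d : Vc) : B c d = B d c := by
  simp [B, av, cm, Fin.sum_univ_eight]; ring

theorem B_even (c : Vc) : Even (B c c) := by
  refine ⟨c 0 * c 0 + c 1 * c 1 + c 2 * c 2 + c 3 * c 3 + c 4 * c 4 + c 5 * c 5 + c 6 * c 6 + c 7 * c 7
    - c 0 * c 2 - c 1 * c 3 - c 2 * c 3 - c 3 * c 4 - c 4 * c 5 - c 5 * c 6 - c 6 * c 7, ?_⟩
  simp [B, av, cm, Fin.sum_univ_eight]; ring

theorem B_squares (c : Vc) : 60 * B c c =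
    30 * (2 * c 0 - c 2) ^ 2 + 30 * (2 * c 1 - c 3) ^ 2 + 10 * (3 * c 2 - 2 * c 3) ^ 2
      + 2 * (5 * c 3 - 6 * c 4) ^ 2 + 3 * (4 * c 4 - 5 * c 5) ^ 2 + 5 * (3 * c 5 - 4 * c 6) ^ 2
      + 10 * (2 * c 6 - 3 * c 7) ^ 2 + 30 * c 7 ^ 2 := by
  simp [B, av, cm, Fin.sum_univ_eight]; ring

theorem B_nonneg (c : Vc) : 0 ≤ B c c := by
  have h := B_squares c
  nlinarith [h, sq_nonneg (2 * c 0 - c 2), sq_nonneg (2 * c 1 - c 3), sq_nonneg (3 * c 2 - 2 * c 3),
    sq_nonneg (5 * c 3 - 6 * c 4), sq_nonneg (4 * c 4 - 5 * c 5), sq_nonneg (3 * c 5 - 4 * c 6),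
    sq_nonneg (2 * c 6 - 3 * c 7), sq_nonneg (c 7)]

theorem B_eq_zero {c : Vc} (h : B c c = 0) : c = 0 := by
  have hs := B_squares c
  rw [h, mul_zero] at hs
  have h0 : ∀ x : ℤ, x ^ 2 ≤ 0 → x = 0 := fun x hx =>
    pow_eq_zero_iff (two_ne_zero) |>.1 (le_antisymm hx (sq_nonneg x))
  have n0 := sq_nonneg (2 * c 0 - c 2)
  have n1 := sq_nonneg (2 * c 1 - c 3)
  have n2 := sq_nonneg (3 * c 2 - 2 * c 3)
  have n3 := sq_nonneg (5 * c 3 - 6 * c 4)
  have n4 := sq_nonneg (4 * c 4 - 5 * c 5)
  have n5 := sq_nonneg (3 * c 5 - 4 * c 6)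
  have n6 := sq_nonneg (2 * c 6 - 3 * c 7)
  have n7 := sq_nonneg (c 7)
  have e7 := h0 (c 7) (by linarith)
  have e6 := h0 (2 * c 6 - 3 * c 7) (by linarith)
  have e5 := h0 (3 * c 5 - 4 * c 6) (by linarith)
  have e4 := h0 (4 * c 4 - 5 * c 5) (by linarith)
  have e3 := h0 (5 * c 3 - 6 * c 4) (by linarith)
  have e2 := h0 (3 * c 2 - 2 * c 3) (by linarith)
  have e1 := h0 (2 * c 1 - c 3) (by linarith)
  have e0 := h0 (2 * c 0 - c 2) (by linarith)
  funext i
  fin_cases i <;> simp <;> omega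

theorem av_add (c d : Vc) : av (c + d) = av c + av d := by
  funext i; simp [av, mul_add, Finset.sum_add_distrib]

theorem av_smul (a : ℤ) (c : Vc) : av (a • c) = a • av c := by
  funext i; simp [av, Finset.mul_sum, mul_left_comm]

theorem B_add_left (c c' d : Vc) : B (c + c') d = B c d + B c' d := by
  simp [B, add_mul, Finset.sum_add_distrib]

theorem B_smul_left (a : ℤ) (c d : Vc) : B (a • c) d = a * B c d := by
  simp [B, Finset.mul_sum, mul_assoc]

theorem B_add_right (c d d' : Vc) : B c (d + d') = B c d + B c d' := by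
  rw [B_symm, B_add_left, B_symm d, B_symm d']

theorem B_smul_right (a : ℤ) (c d : Vc) : B c (a • d) = a * B c d := by
  rw [B_symm, B_smul_left, B_symm]

theorem B_zero_left (d : Vc) : B 0 d = 0 := by simp [B]

theorem B_zero_right (d : Vc) : B d 0 = 0 := by rw [B_symm, B_zero_left]

theorem B_sub_left (c c' d : Vc) : B (c - c') d = B c d - B c' d := by
  simp [B, sub_mul, Finset.sum_sub_distrib]

theorem B_sub_right (c d d' : Vc) : B c (d - d') = B c d - B c d' := by
  rw [B_symm, B_sub_left, B_symm d, B_symm d']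

theorem B_sum_left {ι : Type*} (s : Finset ι) (f : ι → Vc) (d : Vc) :
    B (∑ i ∈ s, f i) d = ∑ i ∈ s, B (f i) d := by
  classical
  induction s using Finset.induction with
  | empty => simp [B_zero_left]
  | insert a s ha ih => rw [Finset.sum_insert ha, Finset.sum_insert ha, B_add_left, ih]

theorem B_sum_right {ι : Type*} (s : Finset ι) (f : ι → Vc) (d : Vc) :
    B d (∑ i ∈ s, f i) = ∑ i ∈ s, B d (f i) := by
  rw [B_symm, B_sum_left]
  exact Finset.sum_congr rfl fun i _ => B_symm _ _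

theorem B_single (i : Fin 8) (c : Vc) : B (Pi.single i 1) c = av c i := by
  simp [B, Pi.single_apply]

theorem av_inj {c d : Vc} (h : av c = av d) : c = d := by
  have h0 : ∀ x, av x = 0 → x = 0 := fun x hx => B_eq_zero (by simp [B, hx])
  have e : av (c + (-1 : ℤ) • d) = 0 := by rw [av_add, av_smul, h]; simp
  have := h0 _ e
  simpa [← sub_eq_add_neg, sub_eq_zero] using this

theorem gv_av (c : Vc) : gv (av c) = c := av_inj (av_gv _)

theorem card_le_eight {ι : Type*} [Fintype ι] (f : ι → Vc) (hne : ∀ a, B (f a) (f a) ≠ 0)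
    (ho : ∀ a b, a ≠ b → B (f a) (f b) = 0) : Fintype.card ι ≤ 8 := by
  classical
  have hli : LinearIndependent ℤ f := by
    rw [Fintype.linearIndependent_iff]
    intro g hg a
    have h := congrArg (fun x => B x (f a)) hg
    simp only [B_sum_left, B_smul_left, B_zero_left] at h
    rw [Finset.sum_eq_single a (fun b _ hb => by rw [ho b a hb, mul_zero]) (by simp)] at h
    exact (mul_eq_zero.1 h).resolve_right (hne a)
  simpa using hli.fintype_card_le_finrank

/-! ### The table -/

theorem cartan_eq : ∀ i j : Fin 8, chevE8.cartan i.val (chevE8.simple j.val) = cm i j := by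
  decide +kernel

theorem cor_check : ((List.range 240).all fun r => (List.range 8).all fun j =>
    decide (Chevalley.cor chevE8 r j = cfE r j)) = true := by
  decide +kernel

theorem rank_e8 : chevE8.rank = 8 := rfl

theorem nroots_e8 : chevE8.nroots = 240 := by decide +kernel

theorem cor_eq {r j : ℕ} (hr : r < chevE8.nroots) (hj : j < 8) :
    Chevalley.cor chevE8 r j = cfE r j := by
  rw [nroots_e8] at hr
  have h := List.all_eq_true.1 cor_check r (List.mem_range.2 hr)
  exact of_decide_eq_true (List.all_eq_true.1 h j (List.mem_range.2 hj))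

theorem cartan_cv (i : Fin 8) {s : ℕ} (hs : s < chevE8.nroots) :
    chevE8.cartan i.val s = av (cv s) i := by
  rw [Chevalley.E8.cert.cartan_lin i.val i.isLt s hs, Chevalley.list_sum_range_map, rank_e8,
    ← Fin.sum_univ_eq_sum_range (fun j => cfE s j * chevE8.cartan i.val (chevE8.simple j))]
  exact Finset.sum_congr rfl fun j _ => by rw [cartan_eq i j, mul_comm]; rfl

theorem ps_eq {r s : ℕ} (hr : r < chevE8.nroots) (hs : s < chevE8.nroots) :
    pairingSum chevE8 r s = B (cv r) (cv s) := by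
  rw [pairingSum, rank_e8,
    ← Fin.sum_univ_eq_sum_range (fun m => Chevalley.cor chevE8 r m * chevE8.cartan m s)]
  exact Finset.sum_congr rfl fun m _ => by rw [cor_eq hr m.isLt, cartan_cv m hs]; rfl

theorem B_self {r : ℕ} (hr : r < chevE8.nroots) : B (cv r) (cv r) = 2 := by
  rw [← ps_eq hr hr]
  exact ps_self (K := Chevalley.E8.cert) r hr

theorem cv_inj {r s : ℕ} (hr : r < chevE8.nroots) (hs : s < chevE8.nroots) (h : cv r = cv s) :
    r = s :=
  Chevalley.E8.cert.eq_of_cf hr hs fun m hm => congrFun h ⟨m, hm⟩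

theorem cv_neg {r : ℕ} (hr : r < chevE8.nroots) : cv (chevE8.neg r) = -cv r := by
  funext i
  exact Chevalley.E8.cert.cf_neg r hr i i.isLt

theorem cv_simple (i : Fin 8) : cv (chevE8.simple i.val) = Pi.single i 1 := by
  funext j
  show Chevalley.E8.cert.cf _ _ = _
  rw [Chevalley.E8.cert.cf_simple i.val i.isLt j.val j.isLt, Pi.single_apply]
  exact if_congr Fin.ext_iff.symm rfl rfl

theorem cv_w (i : Fin 8) {r : ℕ} (hr : r < chevE8.nroots) :
    cv (Chevalley.E8.cert.w i.val r) = cv r - av (cv r) i • Pi.single i 1 := by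
  funext j
  show Chevalley.E8.cert.cf _ _ = _
  rw [Chevalley.E8.cert.cf_w i.val i.isLt r hr j.val j.isLt, cartan_cv i hr]
  by_cases h : j = i
  · subst h; simp [cv]
  · simp [cv, h, Fin.val_ne_of_ne h]

/-- The vectors of norm two are roots. -/
theorem root_of_norm : ∀ c : Vc, B c c = 2 → ∃ r < chevE8.nroots, cv r = c := by
  suffices ∀ (k : ℕ) (c : Vc), (∑ i, (c i).natAbs) = k → B c c = 2 →
      ∃ r < chevE8.nroots, cv r = c from fun c => this _ c rfl
  intro k
  induction k using Nat.strong_induction_on with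
  | _ k ih =>
    intro c hk hc
    obtain ⟨i, hi⟩ : ∃ i, 0 < c i * av c i := by
      by_contra hne
      push Not at hne
      have : B c c ≤ 0 := Finset.sum_nonpos fun i _ => hne i
      omega
    set a := av c i
    set e : Vc := Pi.single i 1 with he
    have hee : B e e = 2 := by rw [he, ← cv_simple]; exact B_self (Chevalley.E8.cert.simple_lt _ i.isLt).1
    have hce : B c e = a := by rw [B_symm, he, B_single]
    have hp : B (c - e) (c - e) = 4 - 2 * a := by
      simp only [B_sub_left, B_sub_right]; rw [B_symm e c, hee, hce, hc]; ring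
    have hm : B (c + e) (c + e) = 4 + 2 * a := by
      simp only [B_add_left, B_add_right]; rw [B_symm e c, hee, hce, hc]; ring
    have := B_nonneg (c - e)
    have := B_nonneg (c + e)
    by_cases h2 : a = 2
    · refine ⟨_, (Chevalley.E8.cert.simple_lt _ i.isLt).1, ?_⟩
      rw [cv_simple, ← he]
      exact (sub_eq_zero.1 (B_eq_zero (c := c - e) (by omega))).symm
    by_cases h2' : a = -2
    · refine ⟨chevE8.neg (chevE8.simple i.val),
        Chevalley.E8.cert.neg_lt (Chevalley.E8.cert.simple_lt _ i.isLt).1, ?_⟩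
      rw [cv_neg (Chevalley.E8.cert.simple_lt _ i.isLt).1, cv_simple, ← he]
      exact (eq_neg_of_add_eq_zero_left (B_eq_zero (c := c + e) (by omega))).symm
    have ha : a = 1 ∨ a = -1 := by
      rcases lt_trichotomy a 0 with h | h | h
      · right; omega
      · rw [h, mul_zero] at hi; omega
      · left; omega
    set c' := c - a • e with hc'
    have hc'2 : B c' c' = 2 := by
      simp only [hc', B_sub_left, B_sub_right, B_smul_left, B_smul_right]
      rw [B_symm e c, hee, hce, hc]; ring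
    have hlt : (∑ j, (c' j).natAbs) < k := by
      rw [← hk]
      refine Finset.sum_lt_sum (fun j _ => ?_) ⟨i, Finset.mem_univ i, ?_⟩
      · by_cases hj : j = i
        · subst hj
          simp [hc', he]
          rcases ha with h | h <;> rw [h] at hi ⊢ <;> omega
        · simp [hc', he, hj]
      · simp [hc', he]
        rcases ha with h | h <;> rw [h] at hi ⊢ <;> omega
    obtain ⟨r, hr, hrc⟩ := ih _ hlt c' rfl hc'2
    refine ⟨Chevalley.E8.cert.w i.val r, (Chevalley.E8.cert.w_lt _ i.isLt r hr).1, ?_⟩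
    have hav : av c' i = -a := by
      rw [← B_single, hc', B_sub_right, B_smul_right, ← he, hee, B_symm, hce]; ring
    rw [cv_w i hr, hrc, hav, ← he, hc', neg_smul]
    abel

end Cfsg.Agent.H37.OddInv.E8
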