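import Cfsg.Agent.H37.OddInv.Root
import Cfsg.Agent.H54.G2Cent

/-!
Odd field order: every involution of a tabulated Chevalley group is conjugate to one in the diagonal
subgroup, given a finite condition on the involutions of the Weyl group.
-/

set_option autoImplicit false

namespace Cfsg.Agent.H37.OddInv

open Cfsg.Lie Cfsg.Agent.H37 Cfsg.Agent.H37.RootSys
open Cfsg.Agent.Chevalley (pairingSum)
open Cfsg.Agent.H87 (upMat lowMat)
open Cfsg.Agent.H54.G2 (wM dM coe_wM coe_dM sl2_induction isSquare_mul_nonsquare)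
open scoped MatrixGroups

variable {D : ChevalleyDatum} {F : Type*} [Field F] (Q : Chev.Data D F)

/-- The negated roots. -/
def Neg (w : Q.X.M.Group) (r : ℕ) : Prop := r < D.nroots ∧ rho Q w r = D.neg r

/-- What is needed of an involution of the Weyl group. -/
def Reducible (w : Q.X.M.Group) : Prop :=
  (∃ r s, Neg Q w r ∧ Neg Q w s ∧ Odd (pairingSum D s r)) ∨
    ∃ r x, Neg Q w r ∧ x < D.nroots ∧ Odd (pairingSum D r x) ∧ IsRefl Q.K r x (rho Q w x)

theorem exists_phi {r : ℕ} (hr : r < D.nroots) : ∃ φ : SL(2, F) →* ↥(D.group F),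
    ∀ t, φ (upMat t) = xg Q r t ∧ φ (lowMat t) = xg Q (D.neg r) t := by
  obtain ⟨φ, hrange, hφ⟩ := Q.K.exists_sl2Hom F (r := r) hr
  have hle : ∀ s, D.rootSubgroup F s ≤ D.group F := by
    intro s g hg
    obtain ⟨u, rfl⟩ := (Q.K.mem_rootSubgroup F).1 hg
    exact Q.K.xU_mem_group F s u
  refine ⟨φ.codRestrict _ fun A => (hrange.le.trans (sup_le (hle _) (hle _))) ⟨A, rfl⟩,
    fun t => ⟨Subtype.ext ?_, Subtype.ext ?_⟩⟩
  · exact Units.ext ((hφ (upMat t) t).1 rfl)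
  · exact Units.ext ((hφ (lowMat t) t).2 rfl)

/-- The map of SL₂ on a root. -/
noncomputable def phi {r : ℕ} (hr : r < D.nroots) : SL(2, F) →* ↥(D.group F) :=
  (exists_phi Q hr).choose

theorem phi_up {r : ℕ} (hr : r < D.nroots) (t : F) : phi Q hr (upMat t) = xg Q r t :=
  ((exists_phi Q hr).choose_spec t).1

theorem phi_low {r : ℕ} (hr : r < D.nroots) (t : F) : phi Q hr (lowMat t) = xg Q (D.neg r) t :=
  ((exists_phi Q hr).choose_spec t).2

theorem phi_wM {r : ℕ} (hr : r < D.nroots) (c : Fˣ) : phi Q hr (wM c) = nG' Q r c := by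
  refine Subtype.ext ?_
  rw [wM, map_mul, map_mul, phi_up, phi_low, coe_nG', Q.K.nU_eq]
  rfl

theorem phi_dM {r : ℕ} (hr : r < D.nroots) (c : Fˣ) : phi Q hr (dM c) = hG' Q r c := by
  refine Subtype.ext ?_
  rw [dM, map_mul, phi_wM, phi_wM, Subgroup.coe_mul, coe_nG', coe_nG', coe_hG', Q.K.hU_eq]
  simp

/-- `!![d, c'/c; c b, a]`. -/
def thFun (c : Fˣ) (A : SL(2, F)) : SL(2, F) :=
  ⟨!![(A : Matrix (Fin 2) (Fin 2) F) 1 1, (A : Matrix (Fin 2) (Fin 2) F) 1 0 * (c : F)⁻¹;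
      (c : F) * (A : Matrix (Fin 2) (Fin 2) F) 0 1, (A : Matrix (Fin 2) (Fin 2) F) 0 0], by
    have := A.2
    rw [Matrix.det_fin_two] at this
    rw [Matrix.det_fin_two_of]
    field_simp
    linear_combination this⟩

theorem coe_thFun (c : Fˣ) (A : SL(2, F)) : (thFun c A : Matrix (Fin 2) (Fin 2) F) =
    !![(A : Matrix (Fin 2) (Fin 2) F) 1 1, (A : Matrix (Fin 2) (Fin 2) F) 1 0 * (c : F)⁻¹;
      (c : F) * (A : Matrix (Fin 2) (Fin 2) F) 0 1, (A : Matrix (Fin 2) (Fin 2) F) 0 0] := rfl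

/-- Conjugation by `!![0, 1; c, 0]`. -/
def theta (c : Fˣ) : SL(2, F) →* SL(2, F) :=
  MonoidHom.mk' (thFun c) fun A B => Subtype.ext (by
    rw [Matrix.SpecialLinearGroup.coe_mul, coe_thFun, coe_thFun, coe_thFun]
    ext i j
    fin_cases i <;> fin_cases j <;> simp [Matrix.mul_apply, Fin.sum_univ_two] <;> field_simp <;> ring)

theorem coe_theta (c : Fˣ) (A : SL(2, F)) : (theta c A : Matrix (Fin 2) (Fin 2) F) =
    !![(A : Matrix (Fin 2) (Fin 2) F) 1 1, (A : Matrix (Fin 2) (Fin 2) F) 1 0 * (c : F)⁻¹;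
      (c : F) * (A : Matrix (Fin 2) (Fin 2) F) 0 1, (A : Matrix (Fin 2) (Fin 2) F) 0 0] := rfl

theorem theta_up (c : Fˣ) (t : F) : theta c (upMat t) = lowMat ((c : F) * t) :=
  Subtype.ext (by
    rw [coe_theta, Cfsg.Agent.H87.upMat_coe, Cfsg.Agent.H87.lowMat_coe]
    ext i j; fin_cases i <;> fin_cases j <;> simp)

theorem theta_low (c : Fˣ) (t : F) : theta c (lowMat t) = upMat ((c : F)⁻¹ * t) :=
  Subtype.ext (by
    rw [coe_theta, Cfsg.Agent.H87.upMat_coe, Cfsg.Agent.H87.lowMat_coe]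
    ext i j; fin_cases i <;> fin_cases j <;> simp [mul_comm])

/-- An involution in the monomial subgroup and its action on a negated root. -/
theorem exists_coeff {m : ↥(D.group F)} {w : Q.X.M.Group} (hm : Acts Q m w) (hsq : m * m = 1)
    {r : ℕ} (hr : r < D.nroots) (hn : rho Q w r = D.neg r) :
    ∃ c : Fˣ, (∀ t, m * xg Q r t * m = xg Q (D.neg r) ((c : F) * t)) ∧
      (∀ t, m * xg Q (D.neg r) t * m = xg Q r ((c : F)⁻¹ * t)) := by
  have einv : m⁻¹ = m := inv_eq_of_mul_eq_one_right hsq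
  obtain ⟨c, hc⟩ := hm r hr
  rw [hn] at hc
  simp only [einv] at hc
  refine ⟨c, hc, fun t => ?_⟩
  have h := hc ((c : F)⁻¹ * t)
  rw [mul_inv_cancel_left₀ c.ne_zero] at h
  rw [← h]
  calc _ = (m * m) * xg Q r ((c : F)⁻¹ * t) * (m * m) := by group
    _ = _ := by rw [hsq, one_mul, mul_one]

theorem phi_theta {m : ↥(D.group F)} (hsq : m * m = 1) {r : ℕ} (hr : r < D.nroots) {c : Fˣ}
    (h1 : ∀ t, m * xg Q r t * m = xg Q (D.neg r) ((c : F) * t))
    (h2 : ∀ t, m * xg Q (D.neg r) t * m = xg Q r ((c : F)⁻¹ * t)) (A : SL(2, F)) :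
    m * phi Q hr A * m = phi Q hr (theta c A) := by
  refine sl2_induction (p := fun A => m * phi Q hr A * m = phi Q hr (theta c A)) (fun t => ?_)
    (fun t => ?_) (by simp [hsq]) (fun A B ha hb => ?_) (fun A ha => ?_) A
  · rw [phi_up, theta_up, phi_low, h1]
  · rw [phi_low, theta_low, phi_up, h2]
  · rw [map_mul, map_mul, map_mul, ← ha, ← hb]
    calc _ = m * phi Q hr A * 1 * phi Q hr B * m := by group
      _ = _ := by rw [← hsq]; group
  · rw [map_inv, map_inv, map_inv, ← ha, mul_inv_rev, mul_inv_rev, inv_eq_of_mul_eq_one_right hsq,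
      mul_assoc]

/-- Conjugating an involution by an element of the SL₂ of a negated root. -/
theorem phi_conj {m : ↥(D.group F)} (hsq : m * m = 1) {r : ℕ} (hr : r < D.nroots) {c : Fˣ}
    (h1 : ∀ t, m * xg Q r t * m = xg Q (D.neg r) ((c : F) * t))
    (h2 : ∀ t, m * xg Q (D.neg r) t * m = xg Q r ((c : F)⁻¹ * t)) {A B : SL(2, F)}
    (hA : A = B * theta c A) : phi Q hr A * m * (phi Q hr A)⁻¹ = phi Q hr B * m := by
  have e : phi Q hr A = phi Q hr B * (m * phi Q hr A * m) := by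
    rw [phi_theta Q hsq hr h1 h2 A, ← map_mul, ← hA]
  have e2 : phi Q hr A * m = phi Q hr B * m * phi Q hr A := by
    calc phi Q hr A * m = phi Q hr B * (m * phi Q hr A * m) * m := by rw [← e]
      _ = phi Q hr B * m * phi Q hr A * (m * m) := by group
      _ = _ := by rw [hsq, mul_one]
  rw [e2, mul_inv_cancel_right]

theorem exists_eigen (h2 : (2 : F) ≠ 0) {c b : Fˣ} (hc : c = (b * b)⁻¹) :
    ∃ A : SL(2, F), A = wM b * theta c A := by
  let A : SL(2, F) := ⟨!![1 / 2, (b : F) / 2; -(b : F)⁻¹, 1], by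
    rw [Matrix.det_fin_two_of]; field_simp; norm_num⟩
  have hA : (A : Matrix (Fin 2) (Fin 2) F) = !![1 / 2, (b : F) / 2; -(b : F)⁻¹, 1] := rfl
  refine ⟨A, Subtype.ext ?_⟩
  rw [Matrix.SpecialLinearGroup.coe_mul, coe_theta, coe_wM, hA, hc]
  ext i j
  fin_cases i <;> fin_cases j <;> simp [Matrix.mul_apply, Fin.sum_univ_two] <;> field_simp

theorem exists_flip [Fintype F] (hodd : Odd (Fintype.card F)) (c d : Fˣ) :
    ∃ A : SL(2, F), A = dM d * theta c A := by
  classical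
  obtain ⟨x, y, hxy⟩ := FiniteField.exists_root_sum_quadratic
    (f := Polynomial.X ^ 2 - Polynomial.C (d : F)) (g := Polynomial.C (-(c : F)) * Polynomial.X ^ 2)
    (by rw [Polynomial.degree_X_pow_sub_C (by norm_num)]; norm_num)
    (by rw [Polynomial.degree_C_mul_X_pow 2 (neg_ne_zero.2 c.ne_zero)]; norm_num)
    (Nat.odd_iff.1 hodd)
  simp only [Polynomial.eval_mul, Polynomial.eval_C, Polynomial.eval_pow, Polynomial.eval_X,
    Polynomial.eval_sub] at hxy
  let A : SL(2, F) := ⟨!![x, y; (c : F) * y / (d : F), x / (d : F)], by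
    rw [Matrix.det_fin_two_of]; field_simp; linear_combination hxy⟩
  have hA : (A : Matrix (Fin 2) (Fin 2) F) = !![x, y; (c : F) * y / (d : F), x / (d : F)] := rfl
  refine ⟨A, Subtype.ext ?_⟩
  rw [Matrix.SpecialLinearGroup.coe_mul, coe_theta, coe_dM, hA]
  ext i j
  fin_cases i <;> fin_cases j <;> simp [Matrix.mul_apply, Fin.sum_univ_two] <;> field_simp

theorem theta_wM_one (c : Fˣ) : theta c (wM (1 : Fˣ)) = wM (-c⁻¹) := by
  apply Subtype.ext
  rw [coe_theta, coe_wM, coe_wM]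
  ext i j; fin_cases i <;> fin_cases j <;> simp

theorem isSquare_of_zpow {c : Fˣ} {k : ℤ} (hk : Odd k) (h : IsSquare (c ^ k)) : IsSquare c := by
  obtain ⟨j, rfl⟩ := hk
  obtain ⟨e, he⟩ := h
  refine ⟨e * c ^ (-j), ?_⟩
  rw [mul_mul_mul_comm, ← he, ← zpow_add, ← zpow_add,
    show 2 * j + 1 + (-j + -j) = 1 by ring, zpow_one]

/-- A negated root with a root on which `w` is the reflection, oddly paired: the coefficient is a
square. -/
theorem coeff_square {m : ↥(D.group F)} {w : Q.X.M.Group} (hm : Acts Q m w) (hw : w * w = 1)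
    (hsq : m * m = 1) {r x : ℕ} (hr : r < D.nroots) (hx : x < D.nroots)
    (hodd : Odd (pairingSum D r x)) (hrefl : IsRefl Q.K r x (rho Q w x)) {c : Fˣ}
    (h1 : ∀ t, m * xg Q r t * m = xg Q (D.neg r) ((c : F) * t))
    (h2 : ∀ t, m * xg Q (D.neg r) t * m = xg Q r ((c : F)⁻¹ * t)) : IsSquare c := by
  set y := rho Q w x with hy
  set k := pairingSum D r x
  have hylt : y < D.nroots := rho_lt Q w hx
  have hwy : rho Q w y = x := by
    show Chevalley.Weights.act _ w (Chevalley.Weights.act _ w x) = x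
    rw [← Chevalley.Weights.act_mul _ _ hx, hw, Chevalley.Weights.act_one]
  have einv : m⁻¹ = m := inv_eq_of_mul_eq_one_right hsq
  set n := nG' Q r 1 with hn
  obtain ⟨y', hy', e, he⟩ := nU_conj_root Q r hr 1 x hx
  obtain rfl := hy'.unique hrefl
  have hnx : ∀ t, n * xg Q x t * n⁻¹ = xg Q y ((e : F) * t) := fun t => Subtype.ext (by
    have := he t
    simpa [hn] using this)
  have hsqn : n * n = (hG' Q r (-1))⁻¹ := by
    refine Subtype.ext ?_
    rw [hn, Subgroup.coe_mul, Subgroup.coe_inv, coe_nG', coe_hG', Q.K.hU_eq, mul_inv_rev,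
      Q.K.nU_inv, neg_neg]
  have hflip : ∀ t, hG' Q r (-1 : F) * xg Q x t * (hG' Q r (-1 : F))⁻¹ = xg Q x (-t) := fun t =>
    Subtype.ext (by
      have := Q.K.hU_conj_xU F hr hx (-1) t
      rw [Units.val_neg, Units.val_one, hodd.neg_one_zpow, Units.val_neg, Units.val_one,
        neg_one_mul] at this
      exact this)
  have hnnx : ∀ t, n * n * xg Q x t * (n * n)⁻¹ = xg Q x (-t) := fun t => by
    rw [hsqn, inv_inv]
    have := hflip (-t)
    rw [neg_neg] at this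
    rw [← this]
    group
  have hny : ∀ u, n * xg Q y u * n⁻¹ = xg Q x (-((e : F)⁻¹ * u)) := fun u => by
    rw [← hnnx ((e : F)⁻¹ * u), show ∀ z, n * n * z * (n * n)⁻¹ = n * (n * z * n⁻¹) * n⁻¹ from
      fun z => by group, hnx, mul_inv_cancel_left₀ e.ne_zero]
  obtain ⟨μ, hμ⟩ := hm x hx
  simp only [einv, ← hy] at hμ
  have hμ' : ∀ t, m * xg Q y ((μ : F) * t) * m = xg Q x t := fun t => by
    rw [← hμ]
    calc _ = (m * m) * xg Q x t * (m * m) := by group
      _ = _ := by rw [hsq, one_mul, mul_one]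
  have hmn : m * n * m = hG' Q r ((-c⁻¹ : Fˣ) : F) * n := by
    have h0 := phi_theta Q hsq hr h1 h2 (wM (1 : Fˣ))
    rw [phi_wM, theta_wM_one, phi_wM, Units.val_one, ← hn] at h0
    rw [h0, hn, ← nG'_eq]
  have hhd : ∀ t, hG' Q r ((-c⁻¹ : Fˣ) : F) * xg Q x t * (hG' Q r ((-c⁻¹ : Fˣ) : F))⁻¹
      = xg Q x ((((-c⁻¹ : Fˣ) ^ k : Fˣ) : F) * t) :=
    fun t => Subtype.ext (Q.K.hU_conj_xU F hr hx (-c⁻¹) t)
  have key : xg Q x ((((-c⁻¹ : Fˣ) ^ k : Fˣ) : F) * (-((e : F)⁻¹ * ((μ : F) * (μ : F)))))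
      = xg Q x (e : F) := by
    rw [← hhd, ← hny, show ∀ a z, a * (n * z * n⁻¹) * a⁻¹ = (a * n) * z * (a * n)⁻¹ from
      fun a z => by group, ← hmn, ← hμ (μ : F)]
    calc m * n * m * (m * xg Q x (μ : F) * m) * (m * n * m)⁻¹
        = m * (n * (m * m * xg Q x (μ : F) * (m * m)⁻¹ * (m * m)) * n⁻¹) * m⁻¹ := by group
      _ = m * (n * xg Q x (μ : F) * n⁻¹) * m := by rw [hsq, einv]; group
      _ = xg Q x (e : F) := by rw [hnx, mul_comm (e : F) (μ : F), hμ']
  have h3 := xg_inj Q hx key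
  refine isSquare_of_zpow hodd ⟨μ * e⁻¹, Units.ext ?_⟩
  rw [← neg_one_mul, mul_zpow, hodd.neg_one_zpow, inv_zpow, Units.val_mul, Units.val_neg,
    Units.val_one] at h3
  have hne : ((c ^ k : Fˣ) : F) ≠ 0 := Units.ne_zero _
  simp only [Units.val_mul, Units.val_inv_eq_inv_val] at h3 ⊢
  field_simp at h3 ⊢
  linear_combination (-1 : F) * h3

/-- Fewer negated roots after conjugating when some coefficient is a square. -/
theorem descend (h2 : (2 : F) ≠ 0) {m : ↥(D.group F)} {w : Q.X.M.Group} (hmN : m ∈ Q.amb.N)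
    (hm : Acts Q m w) (hw : w * w = 1) (hsq : m * m = 1) {r : ℕ} (hr : r < D.nroots)
    (hn : rho Q w r = D.neg r) {c : Fˣ}
    (h1 : ∀ t, m * xg Q r t * m = xg Q (D.neg r) ((c : F) * t))
    (h2' : ∀ t, m * xg Q (D.neg r) t * m = xg Q r ((c : F)⁻¹ * t)) (hc : IsSquare c) :
    ∃ (m' : ↥(D.group F)) (w' : Q.X.M.Group), m' ∈ Q.amb.N ∧ m' * m' = 1 ∧ IsConj m m' ∧
      Acts Q m' w' ∧ (∀ s < D.nroots, rho Q w' s = D.neg s → rho Q w s = D.neg s) ∧
      rho Q w' r ≠ D.neg r := by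
  obtain ⟨a, ha⟩ := hc
  have hcb : c = (a⁻¹ * a⁻¹)⁻¹ := by rw [ha, mul_inv_rev, inv_inv]
  obtain ⟨A, hA⟩ := exists_eigen h2 hcb
  have hg := phi_conj Q hsq hr h1 h2' hA
  rw [phi_wM] at hg
  have hN : nG' Q r (a⁻¹ : Fˣ) * m ∈ Q.amb.N := mul_mem (nG'_mem_N Q hr (Units.ne_zero _)) hmN
  obtain ⟨w', hw', -⟩ := exists_acts Q hN
  refine ⟨_, w', hN, ?_, isConj_iff.2 ⟨_, hg⟩, hw', fun s hs hs' => ?_, fun hr' => ?_⟩
  · rw [← hg, show ∀ g : ↥(D.group F), g * m * g⁻¹ * (g * m * g⁻¹) = g * (m * m) * g⁻¹ from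
      fun g => by group, hsq]
    group
  · obtain ⟨hlt, hcf⟩ := refl_acts Q hr a⁻¹ hm hw' hs
    rw [hs'] at hcf
    set u := rho Q w s with hu
    set k := pairingSum D r u
    have hul : u < D.nroots := rho_lt Q w hs
    have hww : rho Q w u = s := by
      show Chevalley.Weights.act _ w (Chevalley.Weights.act _ w s) = s
      rw [← Chevalley.Weights.act_mul _ _ hs, hw, Chevalley.Weights.act_one]
    have h3 := rho_comb Q w (Q.K.neg_lt hs) hul hr hcf
    rw [rho_neg Q w hs, ← hu, hww, hn] at h3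
    obtain ⟨j, hj, hj0⟩ := cf_ne_zero (K := Q.K) hr
    have e1 := hcf j hj
    have e2 := h3 j hj
    rw [Q.K.cf_neg u hul j hj, Q.K.cf_neg r hr j hj] at e2
    rw [Q.K.cf_neg s hs j hj] at e1
    have hk : k = 0 := by
      have : 2 * k * Q.K.cf r j = 0 := by linarith
      rcases mul_eq_zero.1 this with h | h
      · omega
      · exact absurd h hj0
    refine Q.K.eq_of_cf hul (Q.K.neg_lt hs) fun i hi => ?_
    rw [hcf i hi, hk]
    ring
  · obtain ⟨hlt, hcf⟩ := refl_acts Q hr a⁻¹ hm hw' hr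
    rw [hr'] at hcf
    rw [hn] at hcf
    obtain ⟨j, hj, hj0⟩ := cf_ne_zero (K := Q.K) hr
    have e1 := hcf j hj
    rw [ps_neg (K := Q.K) r hr, ps_self (K := Q.K) r hr, Q.K.cf_neg r hr j hj] at e1
    omega

/-- The number of negated roots. -/
noncomputable def negCard (w : Q.X.M.Group) : ℕ :=
  ((Finset.range D.nroots).filter fun r => rho Q w r = D.neg r).card

theorem exists_H_conj' [Fintype F] (hodd : Odd (Fintype.card F))
    (hred : ∀ (m : ↥(D.group F)) (w : Q.X.M.Group), Acts Q m w → m * m = 1 → w * w = 1 → w ≠ 1 →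
      (∃ r s, Neg Q w r ∧ Neg Q w s ∧ Odd (pairingSum D s r)) ∨
        ∃ (r : ℕ) (c : Fˣ), Neg Q w r ∧
          (∀ t, m * xg Q r t * m = xg Q (D.neg r) ((c : F) * t)) ∧
          (∀ t, m * xg Q (D.neg r) t * m = xg Q r ((c : F)⁻¹ * t)) ∧ IsSquare c) :
    ∀ m ∈ Q.amb.N, m * m = 1 → ∃ h ∈ Q.amb.H, h * h = 1 ∧ IsConj m h := by
  have h2 : (2 : F) ≠ 0 := Ring.two_ne_zero fun h =>
    Nat.not_odd_iff_even.2 (Nat.even_iff.2 (FiniteField.even_card_iff_char_two.1 h)) hodd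
  suffices H : ∀ k (m : ↥(D.group F)) (w : Q.X.M.Group), negCard Q w = k → m ∈ Q.amb.N → Acts Q m w →
      m * m = 1 → ∃ h ∈ Q.amb.H, h * h = 1 ∧ IsConj m h by
    intro m hm hsq
    obtain ⟨w, hw, -⟩ := exists_acts Q hm
    exact H _ m w rfl hm hw hsq
  intro k
  induction k using Nat.strong_induction_on with
  | _ k ih =>
    intro m w hk hmN hm hsq
    have hw : w * w = 1 := (hm.mul Q hm).unique Q (hsq ▸ Acts.one Q)
    by_cases h1 : w = 1
    · exact ⟨m, mem_H_of_acts_one Q hmN (h1 ▸ hm), hsq, IsConj.refl m⟩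
    obtain ⟨m₁, r, c, hN₁, hm₁, hsq₁, hconj₁, hr, hn, hc1, hc2, hc⟩ : ∃ (m₁ : ↥(D.group F)) (r : ℕ)
        (c : Fˣ), m₁ ∈ Q.amb.N ∧ Acts Q m₁ w ∧ m₁ * m₁ = 1 ∧ IsConj m m₁ ∧ r < D.nroots ∧
          rho Q w r = D.neg r ∧ (∀ t, m₁ * xg Q r t * m₁ = xg Q (D.neg r) ((c : F) * t)) ∧
          (∀ t, m₁ * xg Q (D.neg r) t * m₁ = xg Q r ((c : F)⁻¹ * t)) ∧ IsSquare c := by
      rcases hred m w hm hsq hw h1 with
        ⟨r, s, ⟨hr, hnr⟩, ⟨hs, hns⟩, hp⟩ | ⟨r, c, ⟨hr, hnr⟩, hc1, hc2, hc⟩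
      · obtain ⟨c, hc1, hc2⟩ := exists_coeff Q hm hsq hr hnr
        by_cases hc : IsSquare c
        · exact ⟨m, r, c, hmN, hm, hsq, IsConj.refl m, hr, hnr, hc1, hc2, hc⟩
        obtain ⟨cs, hs1, hs2⟩ := exists_coeff Q hm hsq hs hns
        obtain ⟨A, hA⟩ := exists_flip hodd cs c
        have hg := phi_conj Q hsq hs hs1 hs2 hA
        rw [phi_dM] at hg
        have hH : hG' Q s (c : F) ∈ Q.amb.H := hG'_mem Q hs c.ne_zero
        have hm' : Acts Q (hG' Q s (c : F) * m) w := by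
          have := (Acts.of_mem_H Q hH).mul Q hm
          rwa [one_mul] at this
        have hsq' : hG' Q s (c : F) * m * (hG' Q s (c : F) * m) = 1 := by
          rw [← hg, show ∀ g : ↥(D.group F), g * m * g⁻¹ * (g * m * g⁻¹) = g * (m * m) * g⁻¹ from
            fun g => by group, hsq]
          group
        obtain ⟨c', hc1', hc2'⟩ := exists_coeff Q hm' hsq' hr hnr
        refine ⟨_, r, c', mul_mem (Q.amb.H_le_N hH) hmN, hm', hsq', isConj_iff.2 ⟨_, hg⟩, hr, hnr,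
          hc1', hc2', ?_⟩
        set q := pairingSum D s (D.neg r)
        have hq : Odd q := by
          rw [show q = pairingSum D s (D.neg r) from rfl, ps_neg (K := Q.K) s hr]
          exact hp.neg
        have e : c' = c ^ q * c := by
          have h3 := hc1' 1
          have h4 : hG' Q s (c : F) * xg Q (D.neg r) ((c : F) * 1) * (hG' Q s (c : F))⁻¹
              = xg Q (D.neg r) (((c ^ q : Fˣ) : F) * ((c : F) * 1)) :=
            Subtype.ext (Q.K.hU_conj_xU F hs (Q.K.neg_lt hr) c _)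
          rw [← hc1] at h4
          have einv : (hG' Q s (c : F) * m)⁻¹ = hG' Q s (c : F) * m := inv_eq_of_mul_eq_one_right hsq'
          have h5 : hG' Q s (c : F) * m * xg Q r 1 * (hG' Q s (c : F) * m)
              = hG' Q s (c : F) * (m * xg Q r 1 * m) * (hG' Q s (c : F))⁻¹ := by
            nth_rewrite 2 [← einv]
            rw [mul_inv_rev, inv_eq_of_mul_eq_one_right hsq]
            group
          rw [h5, h4] at h3
          have := xg_inj Q (Q.K.neg_lt hr) h3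
          refine Units.ext ?_
          rw [Units.val_mul]
          linear_combination -this
        rw [e]
        refine isSquare_mul_nonsquare h2 (fun h => hc (isSquare_of_zpow hq h)) hc
      · exact ⟨m, r, c, hmN, hm, hsq, IsConj.refl m, hr, hnr, hc1, hc2, hc⟩
    obtain ⟨m', w', hN', hsq', hconj', hm', hsub, hne⟩ :=
      descend Q h2 hN₁ hm₁ hw hsq₁ hr hn hc1 hc2 hc
    have hlt : negCard Q w' < k := by
      rw [← hk]
      refine Finset.card_lt_card ((Finset.ssubset_iff_of_subset fun s hs => ?_).2 ⟨r, ?_, ?_⟩)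
      · simp only [Finset.mem_filter, Finset.mem_range] at hs ⊢
        exact ⟨hs.1, hsub s hs.1 hs.2⟩
      · simp only [Finset.mem_filter, Finset.mem_range]
        exact ⟨hr, hn⟩
      · simp only [Finset.mem_filter, Finset.mem_range]
        exact fun h => hne h.2
    obtain ⟨h, hh, hh2, hhc⟩ := ih _ hlt m' w' rfl hN' hm' hsq'
    exact ⟨h, hh, hh2, hconj₁.trans (hconj'.trans hhc)⟩

/-- The case of a condition on the Weyl-group involutions alone. -/
theorem exists_H_conj [Fintype F] (hodd : Odd (Fintype.card F))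
    (hred : ∀ w : Q.X.M.Group, w * w = 1 → w ≠ 1 → Reducible Q w) :
    ∀ m ∈ Q.amb.N, m * m = 1 → ∃ h ∈ Q.amb.H, h * h = 1 ∧ IsConj m h :=
  exists_H_conj' Q hodd fun m w hm hsq hw h1 => by
    rcases hred w hw h1 with h | ⟨r, x, ⟨hr, hnr⟩, hx, hp, hrefl⟩
    · exact Or.inl h
    · obtain ⟨c, hc1, hc2⟩ := exists_coeff Q hm hsq hr hnr
      exact Or.inr ⟨r, c, ⟨hr, hnr⟩, hc1, hc2, coeff_square Q hm hw hsq hr hx hp hrefl hc1 hc2⟩

/-- Every involution is conjugate to one in `N`. -/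
theorem exists_N_conj [Fintype F] (hodd : Odd (Fintype.card F)) {g : ↥(D.group F)} (hg : g * g = 1) :
    ∃ m ∈ Q.amb.N, m * m = 1 ∧ IsConj g m := by
  obtain ⟨u1, hu1, h, hh, w, v, hv, rfl⟩ := Q.amb.exists_eq g
  set n := Q.amb.n w with hndef
  set x := v * u1 with hxdef
  set m := h * n with hmdef
  have hxU : x ∈ Q.amb.U := mul_mem (Q.amb.Uw_le w hv) hu1
  have hmx : m * x * (m * x) = 1 := by
    rw [show m * x * (m * x) = u1⁻¹ * (u1 * h * n * v * (u1 * h * n * v)) * u1 by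
      rw [hmdef, hxdef]; group, hg]
    group
  have hmN : m ∈ Q.amb.N := mul_mem (Q.amb.H_le_N hh) (Q.amb.n_mem_N w)
  obtain ⟨a, ha, b, hb, hab⟩ := Q.sys.U_split w hxU
  have hma : m * a * m⁻¹ ∈ Q.amb.U := by
    rw [show m * a * m⁻¹ = h * (n * a * n⁻¹) * h⁻¹ by rw [hmdef]; group]
    exact Q.amb.H_conj_U h hh _ (Q.sys.keep_conj w ha)
  obtain ⟨k, hk, w', hkw⟩ := inv_mem hmN
  have e : m * a * m⁻¹ * h * n * b = x⁻¹ * k * Q.amb.n w' * 1 := by
    rw [mul_one, mul_assoc x⁻¹, ← hkw, ← mul_inv_rev, ← eq_inv_of_mul_eq_one_left hmx, hab, hmdef]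
    group
  obtain ⟨hw, hax, hhk, hb1⟩ := Q.amb.unique hma (inv_mem hxU) hh hk hb (one_mem _) e
  have hsq : m * m = 1 := mul_eq_one_iff_eq_inv.2 (by rw [hkw, ← hhk, ← hw])
  have hmm : m * x * m = x⁻¹ := by
    rw [← hax, hab, hb1, mul_one, inv_eq_of_mul_eq_one_right hsq]
  -- a square root of `x`
  obtain ⟨y, hy, hmy⟩ : ∃ y, y * y = x ∧ m * y * m = y⁻¹ := by
    have hox : Odd (orderOf x) := by
      refine Odd.of_dvd_nat ?_ (Subgroup.orderOf_dvd_natCard Q.amb.U hxU)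
      rw [Q.card_U, Nat.card_eq_fintype_card]
      exact hodd.pow
    obtain ⟨j, hj⟩ := hox
    have hpow : ∀ i : ℕ, m * x ^ i * m = (x ^ i)⁻¹ := by
      intro i
      induction i with
      | zero => simpa using hsq
      | succ i ih =>
        calc m * x ^ (i + 1) * m = m * x ^ i * (m * m) * x * m := by rw [hsq, pow_succ]; group
          _ = (m * x ^ i * m) * (m * x * m) := by group
          _ = _ := by rw [ih, hmm, ← mul_inv_rev, ← pow_succ']
    refine ⟨x ^ (j + 1), ?_, hpow (j + 1)⟩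
    rw [← pow_add, show j + 1 + (j + 1) = orderOf x + 1 by omega, pow_succ, pow_orderOf_eq_one,
      one_mul]
  refine ⟨m, hmN, hsq, (show IsConj _ (m * x) from isConj_iff.2 ⟨u1⁻¹, ?_⟩).trans (isConj_iff.2 ⟨y, ?_⟩)⟩
  · show u1⁻¹ * (u1 * h * n * v) * u1⁻¹⁻¹ = m * x
    rw [hmdef, hxdef]; group
  · calc y * (m * x) * y⁻¹ = y * m * y := by
          rw [← hy, ← mul_assoc m y y, ← mul_assoc y, ← mul_assoc y, mul_inv_cancel_right]
      _ = m * m * (y * m * y) := by rw [hsq, one_mul]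
      _ = m * (m * y * m * y) := by simp only [mul_assoc]
      _ = m := by rw [hmy, inv_mul_cancel, mul_one]

end Cfsg.Agent.H37.OddInv
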