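import Cfsg.Agent.H37.OddInv.Central
import Cfsg.Agent.H37.OddInv.Reduce

/-!
Finite checks over the words of a Weyl-group certificate: reducibility of the involutions and the
weighted sums occurring in centraliser orders.
-/

set_option autoImplicit false
set_option linter.style.haveILetI false

namespace Cfsg.Agent.H37.OddInv

open Cfsg.Lie Cfsg.Agent.H37 Cfsg.Agent.H37.RootSys Cfsg.Agent.H37.Weyl
open Cfsg.Agent.Chevalley (pairingSum)

/-- All products of coset representatives. -/
def allWords (C : Weyl.Cert) : ℕ → List (List ℕ)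
  | 0 => [[]]
  | k + 1 => (allWords C k).flatMap fun u => (lev C k).words.map (u ++ ·)

/-- The pairing as a list sum. -/
def psL (D : ChevalleyDatum) (r s : ℕ) : ℤ :=
  ((List.range D.rank).map fun m => Chevalley.cor D r m * D.cartan m s).sum

theorem psL_eq {D : ChevalleyDatum} (r s : ℕ) : psL D r s = pairingSum D r s :=
  Chevalley.list_sum_range_map _ _

/-- The negated roots of a word. -/
def negL (D : ChevalleyDatum) (C : Weyl.Cert) (u : List ℕ) : List ℕ :=
  (List.range D.nroots).filter fun r => C.act u r == D.neg r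

/-- The kernel check for one word. -/
def redB (D : ChevalleyDatum) (cf : ℕ → ℕ → ℤ) (C : Weyl.Cert) (u : List ℕ) : Bool :=
  !((List.range D.nroots).all fun r => C.act u (C.act u r) == r) ||
    ((List.range D.nroots).all fun r => C.act u r == r) ||
    (((negL D C u).any fun r => (negL D C u).any fun s => psL D s r % 2 != 0) ||
      ((negL D C u).any fun r => (List.range D.nroots).any fun x => (psL D r x % 2 != 0) &&
        ((List.range D.rank).all fun m => cf (C.act u x) m == cf x m - psL D r x * cf r m)))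

/-- Whether a word fixes the sign vector. -/
def fixB (D : ChevalleyDatum) (C : Weyl.Cert) (v : ℕ → ℤ) (u : List ℕ) : Bool :=
  (List.range D.rank).all fun i => evenB D v (C.act u (D.simple i)) == evenB D v (D.simple i)

/-- The weighted inversion number of a word. -/
def wtB (D : ChevalleyDatum) (C : Weyl.Cert) (v : ℕ → ℤ) (u : List ℕ) : ℕ :=
  (List.range D.nroots).countP fun r =>
    decide (D.nroots / 2 ≤ r) && evenB D v r && decide (C.act u r < D.nroots / 2)

/-- `fixB` read off a bit mask of the even roots. -/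
def fixM (D : ChevalleyDatum) (C : Weyl.Cert) (mask : ℕ) (u : List ℕ) : Bool :=
  (List.range D.rank).all fun i => mask.testBit (C.act u (D.simple i)) == mask.testBit (D.simple i)

/-- `wtB` read off a bit mask of the even roots. -/
def wtM (D : ChevalleyDatum) (C : Weyl.Cert) (mask : ℕ) (u : List ℕ) : ℕ :=
  (List.range D.nroots).countP fun r =>
    decide (D.nroots / 2 ≤ r) && mask.testBit r && decide (C.act u r < D.nroots / 2)

/-- The number of positive roots fixed by the sign vector. -/
def posB (D : ChevalleyDatum) (v : ℕ → ℤ) : ℕ :=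
  (List.range D.nroots).countP fun r => decide (D.nroots / 2 ≤ r) && evenB D v r

theorem card_filter_range (N : ℕ) (p : ℕ → Bool) :
    ((Finset.range N).filter fun r => p r = true).card = (List.range N).countP p := by
  rw [List.countP_eq_length_filter, ← List.toFinset_card_of_nodup (List.nodup_range.filter _)]
  congr 1
  ext r
  simp

variable {D : ChevalleyDatum} {F : Type*} [Field F] (Q : Chev.Data D F)

theorem exists_word : ∀ w : Q.X.M.Group, ∃ u ∈ allWords Q.X.C Q.X.n, wOf Q.X.M u = w ∧
    ∀ i ∈ u, i < Q.X.n := by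
  suffices ∀ k ≤ Q.X.n, ∀ g ∈ K Q.X.M k, ∃ u ∈ allWords Q.X.C k, wOf Q.X.M u = g ∧
      ∀ i ∈ u, i < Q.X.n by
    intro w
    exact this Q.X.n le_rfl w (by rw [K_top]; exact Subgroup.mem_top w)
  intro k
  induction k with
  | zero =>
    intro _ g hg
    rw [K_zero, Subgroup.mem_bot] at hg
    exact ⟨[], by simp [allWords], by rw [hg, wOf_nil], by simp⟩
  | succ k ih =>
    intro hk g hg
    obtain ⟨a, ha, hga⟩ := Q.X.good.coset_exists (by omega) hg
    obtain ⟨u, hu, hug, hul⟩ := ih (by omega) _ hga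
    have hmem : (lev Q.X.C k).word a ∈ (lev Q.X.C k).words := by
      rw [Level.word_eq _ ha]; exact List.getElem_mem ha
    refine ⟨u ++ (lev Q.X.C k).word a, ?_, ?_, fun i hi => ?_⟩
    · exact List.mem_flatMap.2 ⟨u, hu, List.mem_map.2 ⟨_, hmem, rfl⟩⟩
    · rw [wOf_append, hug, inv_mul_cancel_right]
    · rcases List.mem_append.1 hi with h | h
      · exact hul i h
      · have := (Q.X.good.word_spec (by omega) hmem).1 i h
        omega

theorem sum_words [Fintype Q.X.M.Group] {R : Type*} [AddCommMonoid R]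
    (hlen : (allWords Q.X.C Q.X.n).length = Nat.card Q.X.M.Group) (f : Q.X.M.Group → R) :
    ∑ w : Q.X.M.Group, f w = ((allWords Q.X.C Q.X.n).map fun u => f (wOf Q.X.M u)).sum := by
  classical
  set L := (allWords Q.X.C Q.X.n).map (wOf Q.X.M) with hL
  have huniv : L.toFinset = Finset.univ := by
    refine Finset.eq_univ_iff_forall.2 fun w => ?_
    obtain ⟨u, hu, he, -⟩ := exists_word Q w
    rw [List.mem_toFinset, hL]
    exact List.mem_map.2 ⟨u, hu, he⟩
  have hnd : L.Nodup := by
    rw [← List.dedup_eq_self]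
    refine (List.dedup_sublist L).eq_of_length ?_
    rw [← List.card_toFinset, huniv, Finset.card_univ, hL, List.length_map, hlen,
      Nat.card_eq_fintype_card]
  rw [← huniv, List.sum_toFinset _ hnd, hL, List.map_map]
  rfl

theorem rho_wOf {u : List ℕ} (hu : ∀ i ∈ u, i < Q.X.n) {r : ℕ} (hr : r < D.nroots) :
    rho Q (wOf Q.X.M u) r = Q.X.C.act u r := by
  rw [rho, Chevalley.Weights.act_eq _ hr, Q.X.good.hom_wOf_val hu]

theorem reducible_of_check
    (hchk : ((allWords Q.X.C Q.X.n).all (redB D Q.K.cf Q.X.C)) = true) :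
    ∀ w : Q.X.M.Group, w * w = 1 → w ≠ 1 → Reducible Q w := by
  intro w hw hne
  obtain ⟨u, hu, rfl, hul⟩ := exists_word Q w
  have h := List.all_eq_true.1 hchk u hu
  simp only [redB, negL, Bool.or_eq_true, Bool.and_eq_true, Bool.not_eq_true', List.all_eq_false,
    List.all_eq_true, List.any_eq_true, List.mem_range, List.mem_filter, beq_iff_eq, bne_iff_ne,
    psL_eq] at h
  have hact : ∀ {r}, r < D.nroots → rho Q (wOf Q.X.M u) r = Q.X.C.act u r := rho_wOf Q hul
  rcases h with (⟨r, hr, hne'⟩ | h) | (⟨r, ⟨hr, hnr⟩, s, ⟨hs, hns⟩, hp⟩ | ⟨r, ⟨hr, hnr⟩, x, hx, hp, hc⟩)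
  · exfalso
    apply hne'
    rw [← hact hr, ← hact (rho_lt Q _ hr)]
    show Chevalley.Weights.act _ _ (Chevalley.Weights.act _ _ r) = r
    rw [← Chevalley.Weights.act_mul _ _ hr, hw, Chevalley.Weights.act_one]
  · exfalso
    refine hne (rho_ext Q fun r hr => ?_)
    rw [hact hr, h r hr, rho, Chevalley.Weights.act_one]
  · exact Or.inl ⟨r, s, ⟨hr, (hact hr).trans hnr⟩, ⟨hs, (hact hs).trans hns⟩,
      Int.not_even_iff_odd.1 fun he => hp (Int.even_iff.1 he)⟩
  · refine Or.inr ⟨r, x, ⟨hr, (hact hr).trans hnr⟩, hx,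
      Int.not_even_iff_odd.1 fun he => hp (Int.even_iff.1 he), ?_⟩
    rw [hact hx]
    exact ⟨Q.X.good.act_lt hul hx, hc⟩

theorem posB_eq (v : ℕ → ℤ) :
    ((posSet D).filter fun r => evenB D v r = true).card = posB D v := by
  rw [posB, ← card_filter_range]
  congr 1
  ext r
  simp [posSet, and_assoc]

theorem wtB_eq (v : ℕ → ℤ) {u : List ℕ} (hu : ∀ i ∈ u, i < Q.X.n) :
    ((Sys.flip Q.X.good (wOf Q.X.M u)).filter fun r => evenB D v r = true).card
      = wtB D Q.X.C v u := by
  rw [wtB, ← card_filter_range]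
  congr 1
  ext r
  simp only [Finset.mem_filter, Sys.mem_flip, Finset.mem_range, Bool.and_eq_true, decide_eq_true_eq]
  constructor
  · rintro ⟨⟨h1, h2, h3⟩, h4⟩
    rw [Q.X.good.hom_wOf_val hu] at h3
    exact ⟨h1, ⟨h2, h4⟩, h3⟩
  · rintro ⟨h1, ⟨h2, h4⟩, h3⟩
    exact ⟨⟨h1, h2, by rwa [Q.X.good.hom_wOf_val hu]⟩, h4⟩

theorem fixB_iff (v : ℕ → ℤ) {u : List ℕ} (hu : ∀ i ∈ u, i < Q.X.n) :
    fixB D Q.X.C v u = true ↔ Fixes Q v (wOf Q.X.M u) := by
  simp only [fixB, List.all_eq_true, List.mem_range, beq_iff_eq, Fixes]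
  refine forall₂_congr fun i hi => ?_
  rw [rho_wOf Q hu (Q.K.simple_lt i hi).1]

theorem fixB_eq_fixM {v : ℕ → ℤ} {mask : ℕ}
    (hm : ∀ r < D.nroots, evenB D v r = mask.testBit r) {u : List ℕ} (hu : ∀ i ∈ u, i < Q.X.n) :
    fixB D Q.X.C v u = fixM D Q.X.C mask u := by
  rw [Bool.eq_iff_iff]
  simp only [fixB, fixM, List.all_eq_true, List.mem_range, beq_iff_eq]
  refine forall₂_congr fun i hi => ?_
  have hs := (Q.K.simple_lt i hi).1
  rw [hm _ hs, hm _ (Q.X.good.act_lt hu hs)]

omit Q in
theorem wtB_eq_wtM {C : Weyl.Cert} {v : ℕ → ℤ} {mask : ℕ}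
    (hm : ∀ r < D.nroots, evenB D v r = mask.testBit r) (u : List ℕ) :
    wtB D C v u = wtM D C mask u :=
  List.countP_congr fun r hr => by rw [hm r (List.mem_range.1 hr)]

open Classical in
/-- The centraliser order from a kernel-checked polynomial identity. -/
theorem card_centralizer_of_check [Finite F] (h2 : (2 : F) ≠ 0) (v : ℕ → ℤ)
    (hlen : (allWords Q.X.C Q.X.n).length = Nat.card Q.X.M.Group) {degs : List ℕ}
    {mask : ℕ} (hm : ∀ r < D.nroots, evenB D v r = mask.testBit r)
    (hpoly : ((((allWords Q.X.C Q.X.n).filter (fixM D Q.X.C mask)).map (wtM D Q.X.C mask)).foldr bumpC [])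
      = (degs.map fun d => List.replicate d 1).foldr mulC [1])
    (hgood : ∀ u ∈ allWords Q.X.C Q.X.n, ∀ i ∈ u, i < Q.X.n) :
    Nat.card (Subgroup.centralizer ({invol Q v} : Set ↥(D.group F))) =
      Nat.card F ^ posB D v * Nat.card (D.diagonalSubgroup F) *
        (degs.map fun d => ∑ i ∈ Finset.range d, Nat.card F ^ i).prod := by
  haveI := Q.X.good.finite
  haveI : Fintype Q.X.M.Group := Fintype.ofFinite _
  rw [card_centralizer Q h2 v, posB_eq, sum_words Q hlen]
  congr 1
  have h := congrArg (evalC (Nat.card F)) hpoly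
  rw [evalC_exps, evalC_prod, List.map_map, List.map_map] at h
  have e1 : (degs.map fun d => ∑ i ∈ Finset.range d, Nat.card F ^ i)
      = degs.map (evalC (Nat.card F) ∘ fun d => List.replicate d 1) :=
    List.map_congr_left fun d _ => by simp [evalC_ones]
  rw [e1, ← h]
  generalize hL : allWords Q.X.C Q.X.n = L at hgood ⊢
  clear hL hlen hpoly h
  induction L with
  | nil => simp
  | cons u L ih =>
    have hu := hgood u (by simp)
    rw [List.map_cons, List.sum_cons, ih fun a ha => hgood a (by simp [ha]), List.filter_cons]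
    have hfm := fixB_eq_fixM Q hm hu
    by_cases hf : fixM D Q.X.C mask u = true
    · rw [if_pos ((fixB_iff Q v hu).1 (hfm.trans hf)), if_pos hf, List.map_cons, List.sum_cons,
        wtB_eq Q v hu, wtB_eq_wtM hm]
      rfl
    · rw [if_neg (fun h => hf (hfm.symm.trans ((fixB_iff Q v hu).2 h))), if_neg hf, zero_add]

end Cfsg.Agent.H37.OddInv
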