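import Cfsg.Agent.H37.OddInv.E8Weyl
import Cfsg.Agent.H37.OddInv.Enum

/-!
Parabolic decompositions in the Weyl group of E₈, with inversion numbers weighted by a parity.
-/

set_option autoImplicit false
set_option Elab.async false
set_option maxRecDepth 100000
set_option linter.unusedSectionVars false

namespace Cfsg.Agent.H37.OddInv.E8

open Cfsg.Lie Cfsg.Agent.H37 Cfsg.Agent.H37.RootSys Cfsg.Agent.H37.Weyl

/-- One level: the node, the representatives and their keys. -/
structure Lv where
  i0 : ℕ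
  reps : List (List ℕ)
  keys : List (List ℤ)

/-- The roots counted: those with even coefficient at `p`. -/
def pE (p r : ℕ) : Bool := cfE r p % 2 == 0

/-- The weighted inversion number of a word. -/
def wtA (p : ℕ) (u : List ℕ) : ℕ :=
  (List.range 240).countP fun r => decide (120 ≤ r) && pE p r && decide (certE8.act u r < 120)

/-- The key of a word. -/
def keyA (i0 : ℕ) (u : List ℕ) : List ℤ :=
  (List.range 8).map fun m => cfE (certE8.act u.reverse (chevE8.simple m)) i0

/-- The table of the Cartan matrix. -/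
def cmN (i m : ℕ) : ℤ :=
  ([[2, 0, -1, 0, 0, 0, 0, 0], [0, 2, 0, -1, 0, 0, 0, 0], [-1, 0, 2, -1, 0, 0, 0, 0],
    [0, -1, -1, 2, -1, 0, 0, 0], [0, 0, 0, -1, 2, -1, 0, 0], [0, 0, 0, 0, -1, 2, -1, 0],
    [0, 0, 0, 0, 0, -1, 2, -1], [0, 0, 0, 0, 0, 0, -1, 2]] : List (List ℤ)).getD i [] |>.getD m 0

/-- The key after one more reflection. -/
def stepL (i : ℕ) (l : List ℤ) : List ℤ :=
  (List.range 8).map fun m => l.getD m 0 - cmN i m * l.getD i 0

/-- The key of the identity. -/
def baseL (i0 : ℕ) : List ℤ := (List.range 8).map fun m => if m = i0 then 1 else 0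

/-- The checks on the representatives. -/
def chkReps (i0 : ℕ) (J' : List ℕ) (reps : List (List ℕ)) (keys : List (List ℤ)) : Bool :=
  (reps.all fun u => (u.all fun i => decide (i < 8)) &&
    J'.all fun j => decide (120 ≤ certE8.act u (chevE8.simple j))) &&
  (reps.map (keyA i0) == keys) && decide keys.Nodup && decide (i0 ∉ J') &&
  J'.all fun j => decide (j < 8)

/-- The checks on a level of a chain. -/
def chkLv (p : ℕ) (J' : List ℕ) (L : Lv) : Bool :=
  chkReps L.i0 J' L.reps L.keys && decide (L.i0 < 8) && !(L.i0 == p) &&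
  (L.reps.all fun u => u.all fun i => (L.i0 :: J').contains i) &&
  L.keys.contains (baseL L.i0) &&
  L.keys.all fun k => (L.i0 :: J').all fun i => L.keys.contains (stepL i k)

/-- The checks on a chain. -/
def chkChain (p : ℕ) : List Lv → Bool
  | [] => true
  | L :: C => chkLv p (C.map Lv.i0) L && chkChain p C

theorem cmN_check : ∀ i m : Fin 8, cmN i.val m.val = cm i m := by decide +kernel

variable {F : Type*} [Field F]

/-- Coordinates outside `J` are kept. -/
def Keep (J : List ℕ) (w : WE F) : Prop := ∀ m : Fin 8, m.val ∉ J → ∀ c, lin w c m = c m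

theorem Keep.mul {J : List ℕ} {v w : WE F} (hv : Keep J v) (hw : Keep J w) : Keep J (v * w) :=
  fun m hm c => by rw [lin_mul, hv m hm, hw m hm]

theorem Keep.inv {J : List ℕ} {w : WE F} (hw : Keep J w) : Keep J w⁻¹ := fun m hm c => by
  conv_rhs => rw [← lin_one (F := F) c, ← mul_inv_cancel w, lin_mul, hw m hm]

theorem Keep.one (J : List ℕ) : Keep J (1 : WE F) := fun m _ c => by rw [lin_one]

theorem Keep.si {J : List ℕ} {i : Fin 8} (hi : i.val ∈ J) : Keep J (si i : WE F) := fun m hm c => by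
  have : m ≠ i := fun e => hm (e ▸ hi)
  simp [lin_si, this]

theorem Keep.mono {J J' : List ℕ} (h : ∀ j ∈ J', j ∈ J) {w : WE F} (hw : Keep J' w) : Keep J w :=
  fun m hm => hw m fun h' => hm (h _ h')

theorem keep_nil {w : WE F} (hw : Keep [] w) : w = 1 :=
  eq_of_lin fun c => funext fun m => by rw [hw m (by simp), lin_one]

theorem keep_induction {J : List ℕ} {P : WE F → Prop} (h1 : P 1)
    (hs : ∀ (g : WE F) (i : Fin 8), i.val ∈ J → Keep J g → P g → P (g * E8.si i)) :
    ∀ g : WE F, Keep J g → P g := by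
  suffices ∀ (k : ℕ) (g : WE F), (Qd F).X.good.inv g = k → Keep J g → P g from
    fun g => this _ g rfl
  intro k
  induction k using Nat.strong_induction_on with
  | _ k ih =>
    intro g hk hg
    by_cases hg1 : g = 1
    · exact hg1 ▸ h1
    obtain ⟨i, hi⟩ := exists_desc hg1
    have hiJ : i.val ∈ J := by
      by_contra hn
      have h := hg i hn (Pi.single i 1)
      rw [lin_single, Pi.single_eq_same] at h
      have := nonpos_of_neg (rho_lt (Qd F) g (simple_lt i)) hi i
      omega
    have hlt := inv_mul_si hi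
    have hg' : Keep J (g * E8.si i) := hg.mul (Keep.si hiJ)
    have := hs _ i hiJ hg' (ih _ (by omega) _ rfl hg')
    rwa [mul_assoc, si_sq, mul_one] at this

/-- The key of an element. -/
noncomputable def kl (i0 : ℕ) (g : WE F) : List ℤ :=
  (List.range 8).map fun m => cfE (rho (Qd F) g (chevE8.simple m)) i0

theorem kl_getD (i0 : Fin 8) (g : WE F) (m : Fin 8) :
    (kl i0.val g).getD m.val 0 = lin g (Pi.single m 1) i0 := by
  rw [kl, List.getD_eq_getElem?_getD, List.getElem?_map, List.getElem?_range m.isLt, Option.map_some,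
    Option.getD_some, lin_single]
  rfl

theorem kl_one (i0 : Fin 8) : kl i0.val (1 : WE F) = baseL i0.val := by
  refine List.map_congr_left fun m hm => ?_
  rw [List.mem_range] at hm
  rw [show rho (Qd F) 1 (chevE8.simple m) = chevE8.simple m from Chevalley.Weights.act_one _]
  show Chevalley.E8.cert.cf _ _ = _
  rw [Chevalley.E8.cert.cf_simple m hm i0.val i0.isLt]
  exact if_congr eq_comm rfl rfl

theorem kl_step (i0 : Fin 8) (g : WE F) (i : Fin 8) :
    kl i0.val (g * si i) = stepL i.val (kl i0.val g) := by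
  refine List.map_congr_left fun m hm => ?_
  rw [List.mem_range] at hm
  show cv (rho (Qd F) (g * si i) (chevE8.simple (⟨m, hm⟩ : Fin 8).val)) i0 = _
  rw [← lin_single, lin_mul, lin_si, lin_sub, lin_smul, Pi.sub_apply, Pi.smul_apply, smul_eq_mul]
  show _ = (kl i0.val g).getD (⟨m, hm⟩ : Fin 8).val 0 - _ * _
  rw [kl_getD, kl_getD, cmN_check i ⟨m, hm⟩]
  simp [av, Pi.single_apply]

/-- The element of a word. -/
noncomputable abbrev wd (u : List ℕ) : WE F := wOf (Qd F).X.M u

theorem wd_inv (u : List ℕ) : (wd u : WE F)⁻¹ = wd u.reverse := by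
  induction u with
  | nil => simp [wd, wOf_nil]
  | cons i u ih =>
    rw [wd, wOf_cons, mul_inv_rev, gen_inv, List.reverse_cons]
    show _ = wOf _ (u.reverse ++ [i])
    rw [wOf_append, wOf_singleton]
    exact congrArg (· * _) ih

theorem rho_wd {u : List ℕ} (hu : ∀ i ∈ u, i < 8) {r : ℕ} (hr : r < chevE8.nroots) :
    rho (Qd F) (wd u) r = certE8.act u r :=
  rho_wOf (Qd F) hu hr

theorem kl_wd (i0 : ℕ) {u : List ℕ} (hu : ∀ i ∈ u, i < 8) :
    kl i0 (wd u : WE F)⁻¹ = keyA i0 u := by
  refine List.map_congr_left fun m hm => ?_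
  rw [List.mem_range] at hm
  rw [wd_inv, rho_wd (fun i hi => hu i (List.mem_reverse.1 hi)) (Chevalley.E8.cert.simple_lt m hm).1]

theorem keep_wd {J : List ℕ} {u : List ℕ} (hu : ∀ i ∈ u, i < 8 ∧ i ∈ J) : Keep J (wd u : WE F) := by
  induction u with
  | nil => exact Keep.one J
  | cons i u ih =>
    obtain ⟨hi, hiJ⟩ := hu i List.mem_cons_self
    rw [wd, wOf_cons, show Weyl.gen (Qd F).X.M i = si (⟨i, hi⟩ : Fin 8) from gen_si ⟨i, hi⟩]
    exact (Keep.si (by exact hiJ)).mul (ih fun a ha => hu a (List.mem_cons_of_mem _ ha))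

/-- The weighted inversion number. -/
noncomputable def wt (p : ℕ) (w : WE F) : ℕ :=
  ((Sys.flip (Qd F).X.good w).filter fun r => pE p r = true).card

theorem wt_wd (p : ℕ) {u : List ℕ} (hu : ∀ i ∈ u, i < 8) : wt p (wd u : WE F) = wtA p u := by
  rw [wt, wtA, ← card_filter_range]
  congr 1
  ext r
  simp only [Finset.mem_filter, Sys.mem_flip, Finset.mem_range, Bool.and_eq_true, decide_eq_true_eq,
    nroots_e8]
  constructor
  · rintro ⟨⟨h1, h2, h3⟩, h4⟩
    rw [(Qd F).X.good.hom_wOf_val hu] at h3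
    exact ⟨h1, ⟨by omega, h4⟩, h3⟩
  · rintro ⟨h1, ⟨h2, h4⟩, h3⟩
    exact ⟨⟨h1, by omega, by rw [(Qd F).X.good.hom_wOf_val hu]; exact h3⟩, h4⟩

theorem wt_one (p : ℕ) : wt p (1 : WE F) = 0 := by
  refine Finset.card_eq_zero.2 (Finset.eq_empty_of_forall_notMem fun r hr => ?_)
  obtain ⟨h1, h2, h3⟩ := Sys.mem_flip.1 (Finset.mem_filter.1 hr).1
  rw [map_one, Equiv.Perm.one_apply] at h3
  simp only at h3
  omega

theorem cv_ne_zero {r : ℕ} (hr : r < chevE8.nroots) : cv r ≠ 0 := fun h => by
  have := B_self hr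
  rw [h, B_zero_left] at this
  omega

theorem pos_of_coord {r : ℕ} (hr : r < chevE8.nroots) {m : Fin 8} (h : 0 < cv r m) :
    chevE8.nroots / 2 ≤ r := by
  by_contra hn
  have := nonpos_of_neg hr (by omega) m
  omega

/-- An element positive on the fundamental roots in `J` is additive against `Keep J`. -/
theorem wt_mul {J : List ℕ} (p : Fin 8) (hp : p.val ∉ J) {u x : WE F} (hx : Keep J x)
    (hu : ∀ j : Fin 8, j.val ∈ J → chevE8.nroots / 2 ≤ rho (Qd F) u (chevE8.simple j.val)) :
    wt p.val (u * x) = wt p.val u + wt p.val x := by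
  have hlt : ∀ (g : WE F) {r}, r < chevE8.nroots → rho (Qd F) g r < chevE8.nroots :=
    fun g _ h => rho_lt _ g h
  have hxc : ∀ {r}, r < chevE8.nroots → ∀ m : Fin 8, m.val ∉ J → cv (rho (Qd F) x r) m = cv r m :=
    fun hr m hm => by rw [rho_lin x _ hr]; exact hx m hm _
  have hpe : ∀ {r}, r < chevE8.nroots → pE p.val (rho (Qd F) x r) = pE p.val r := fun hr => by
    show (cv _ p % 2 == 0) = (cv _ p % 2 == 0)
    rw [hxc hr p hp]
  -- roots supported on `J`
  have hsupp : ∀ {r}, r < chevE8.nroots → chevE8.nroots / 2 ≤ r →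
      (∀ m : Fin 8, m.val ∉ J → cv r m = 0) → chevE8.nroots / 2 ≤ rho (Qd F) u r := by
    intro r hr hpos h0
    by_contra hn
    refine cv_ne_zero (hlt u hr) (funext fun m => ?_)
    refine le_antisymm (nonpos_of_neg (hlt u hr) (by omega) m) ?_
    rw [rho_lin u r hr, lin, Finset.sum_apply]
    refine Finset.sum_nonneg fun j _ => ?_
    rw [Pi.smul_apply, smul_eq_mul]
    by_cases hj : j.val ∈ J
    · exact mul_nonneg (nonneg_of_pos hr hpos j) (nonneg_of_pos (hlt u (simple_lt j)) (hu j hj) m)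
    · rw [h0 j hj, zero_mul]
  have hsuppn : ∀ {r}, r < chevE8.nroots → r < chevE8.nroots / 2 →
      (∀ m : Fin 8, m.val ∉ J → cv r m = 0) → rho (Qd F) u r < chevE8.nroots / 2 := by
    intro r hr hneg h0
    have hn := Chevalley.E8.cert.neg_lt hr
    have h := hsupp hn (by rw [Chevalley.E8.cert.neg_eq r hr, nroots_e8] at *; omega)
      (fun m hm => by rw [cv_neg hr, Pi.neg_apply, h0 m hm, neg_zero])
    rw [rho_neg (Qd F) u hr, Chevalley.E8.cert.neg_eq _ (hlt u hr), nroots_e8] at h
    have := hlt u hr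
    rw [nroots_e8] at *
    omega
  set A := (Sys.flip (Qd F).X.good (u * x)).filter fun r => pE p.val r = true with hA
  have hmemA : ∀ r, r ∈ A ↔ r < chevE8.nroots ∧ chevE8.nroots / 2 ≤ r ∧
      rho (Qd F) u (rho (Qd F) x r) < chevE8.nroots / 2 ∧ pE p.val r = true := by
    intro r
    rw [hA, Finset.mem_filter, Sys.mem_flip]
    constructor
    · rintro ⟨⟨h1, h2, h3⟩, h4⟩
      rw [← Chevalley.Weights.act_eq (u * x) h1, Chevalley.Weights.act_mul _ _ h1] at h3
      exact ⟨h1, h2, h3, h4⟩
    · rintro ⟨h1, h2, h3, h4⟩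
      exact ⟨⟨h1, h2, by rw [← Chevalley.Weights.act_eq (u * x) h1, Chevalley.Weights.act_mul _ _ h1]; exact h3⟩, h4⟩
  have e1 : A.filter (fun r => rho (Qd F) x r < chevE8.nroots / 2)
      = (Sys.flip (Qd F).X.good x).filter fun r => pE p.val r = true := by
    ext r
    rw [Finset.mem_filter, hmemA, Finset.mem_filter, Sys.mem_flip]
    constructor
    · rintro ⟨⟨h1, h2, -, h4⟩, h5⟩
      exact ⟨⟨h1, h2, by rw [← Chevalley.Weights.act_eq x h1]; exact h5⟩, h4⟩
    · rintro ⟨⟨h1, h2, h3⟩, h4⟩
      rw [← Chevalley.Weights.act_eq x h1] at h3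
      refine ⟨⟨h1, h2, hsuppn (hlt x h1) h3 fun m hm => le_antisymm ?_ ?_, h4⟩, h3⟩
      · exact nonpos_of_neg (hlt x h1) h3 m
      · rw [hxc h1 m hm]; exact nonneg_of_pos h1 h2 m
  have e2 : (A.filter fun r => ¬ rho (Qd F) x r < chevE8.nroots / 2).card
      = wt p.val u := by
    refine Finset.card_bij (fun r _ => rho (Qd F) x r) (fun r hr => ?_) (fun a ha b hb e => ?_)
      (fun s hs => ?_)
    · obtain ⟨hr', h5⟩ := Finset.mem_filter.1 hr
      obtain ⟨h1, h2, h3, h4⟩ := (hmemA r).1 hr'
      refine Finset.mem_filter.2 ⟨Sys.mem_flip.2 ⟨hlt x h1, by omega, ?_⟩, by rw [hpe h1]; exact h4⟩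
      rw [← Chevalley.Weights.act_eq u (hlt x h1)]
      exact h3
    · have ha1 := ((hmemA a).1 (Finset.mem_filter.1 ha).1).1
      have hb1 := ((hmemA b).1 (Finset.mem_filter.1 hb).1).1
      rw [← Chevalley.Weights.act_inv_act x ha1 (hC := (Qd F).X.good), show
        Chevalley.Weights.act _ x a = rho (Qd F) x b from e, Chevalley.Weights.act_inv_act x hb1]
    · obtain ⟨hs', h4⟩ := Finset.mem_filter.1 hs
      obtain ⟨h1, h2, h3⟩ := Sys.mem_flip.1 hs'
      rw [← Chevalley.Weights.act_eq u h1] at h3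
      set r := rho (Qd F) x⁻¹ s with hr
      have hxr : rho (Qd F) x r = s := Chevalley.Weights.act_act_inv x h1
      have hr1 : r < chevE8.nroots := hlt _ h1
      have hr2 : chevE8.nroots / 2 ≤ r := by
        by_contra hn
        have hz : ∀ m : Fin 8, m.val ∉ J → cv s m = 0 := fun m hm => by
          refine le_antisymm ?_ (nonneg_of_pos h1 h2 m)
          rw [← hxr, hxc hr1 m hm]
          exact nonpos_of_neg hr1 (by omega) m
        have := hsupp h1 h2 hz
        exact absurd h3 (by show ¬ rho (Qd F) u s < _; omega)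
      refine ⟨r, Finset.mem_filter.2 ⟨(hmemA r).2 ⟨hr1, hr2, ?_, ?_⟩, ?_⟩, hxr⟩
      · rw [hxr]; exact h3
      · rw [← hpe hr1, hxr]; exact h4
      · rw [hxr]; omega
  show A.card = _
  rw [← Finset.card_filter_add_card_filter_not (p := fun r => rho (Qd F) x r < chevE8.nroots / 2), e1,
    e2, add_comm]
  rfl

open Classical in
/-- The decomposition of a weighted sum along coset representatives. -/
theorem split_sum [Fintype (WE F)] (q : ℕ) (p : Fin 8) (S : WE F → Prop) {J' : List ℕ}
    (hp : p.val ∉ J') (i0 : Fin 8) {reps : List (List ℕ)} {keys : List (List ℤ)}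
    (hchk : chkReps i0.val J' reps keys = true)
    (hmul : ∀ {v w : WE F}, S v → S w → S (v * w)) (hinv : ∀ {w : WE F}, S w → S w⁻¹)
    (hJ : ∀ {x : WE F}, Keep J' x → S x)
    (hbase : ∀ {x : WE F}, S x → (∀ c, lin x c i0 = c i0) → Keep J' x)
    (hreps : ∀ u ∈ reps, S (wd u : WE F))
    (hcover : ∀ {g : WE F}, S g → kl i0.val g ∈ keys) :
    (∑ w : WE F, if S w then q ^ wt p.val w else 0)
      = (reps.map fun u => q ^ wtA p.val u).sum *
        ∑ x : WE F, if Keep J' x then q ^ wt p.val x else 0 := by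
  simp only [chkReps, Bool.and_eq_true, List.all_eq_true, decide_eq_true_eq, beq_iff_eq] at hchk
  obtain ⟨⟨⟨⟨hu, hkeys⟩, hnd⟩, hi0⟩, hJ8⟩ := hchk
  have hpos : ∀ u ∈ reps, ∀ j : Fin 8, j.val ∈ J' →
      chevE8.nroots / 2 ≤ rho (Qd F) (wd u) (chevE8.simple j.val) := fun u hu' j hj => by
    rw [rho_wd (hu u hu').1 (simple_lt j), half_e8]
    exact (hu u hu').2 j.val hj
  set f : Fin reps.length × {x : WE F // Keep J' x} → {w : WE F // S w} :=
    fun a => ⟨wd reps[a.1] * a.2.1, hmul (hreps _ (List.getElem_mem _)) (hJ a.2.2)⟩ with hf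
  have hkey : ∀ (a : Fin reps.length) (x : WE F), Keep J' x →
      kl i0.val ((wd reps[a.val] : WE F) * x)⁻¹ = keyA i0.val reps[a.val] := by
    intro a x hx
    rw [← kl_wd (F := F) i0.val (hu _ (List.getElem_mem _)).1, mul_inv_rev]
    refine List.map_congr_left fun m hm => ?_
    rw [List.mem_range] at hm
    show cv (rho (Qd F) _ (chevE8.simple (⟨m, hm⟩ : Fin 8).val)) i0
      = cv (rho (Qd F) _ (chevE8.simple (⟨m, hm⟩ : Fin 8).val)) i0
    rw [← lin_single, ← lin_single, lin_mul, hx.inv i0 hi0]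
  have hinj : Function.Injective f := by
    rintro ⟨a, x, hx⟩ ⟨b, y, hy⟩ e
    have e' : (wd reps[a.val] : WE F) * x = wd reps[b.val] * y := congrArg Subtype.val e
    have hk := (hkey a x hx).symm.trans ((congrArg (fun g => kl i0.val g⁻¹) e').trans (hkey b y hy))
    have hab : a = b := by
      refine Fin.ext ?_
      have ha : a.val < keys.length := by rw [← hkeys, List.length_map]; exact a.isLt
      have hb : b.val < keys.length := by rw [← hkeys, List.length_map]; exact b.isLt
      refine (hnd.getElem_inj_iff (hi := ha) (hj := hb)).1 ?_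
      simp only [← hkeys, List.getElem_map]
      exact hk
    subst hab
    rw [mul_right_inj] at e'
    subst e'
    rfl
  have hsurj : Function.Surjective f := by
    rintro ⟨w, hw⟩
    have h := hcover (hinv hw)
    rw [← hkeys, List.mem_map] at h
    obtain ⟨u, hu', hk⟩ := h
    obtain ⟨n, hn, rfl⟩ := List.getElem_of_mem hu'
    set u := reps[n]
    rw [← kl_wd (F := F) i0.val (hu _ hu').1] at hk
    have hfun : ∀ c, lin (wd u : WE F)⁻¹ c i0 = lin w⁻¹ c i0 := by
      intro c
      have hm : ∀ m : Fin 8, cv (rho (Qd F) (wd u : WE F)⁻¹ (chevE8.simple m.val)) i0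
          = cv (rho (Qd F) w⁻¹ (chevE8.simple m.val)) i0 := fun m => by
        have := List.map_inj_left.1 hk m.val (List.mem_range.2 m.isLt)
        exact this
      simp only [lin, Finset.sum_apply, Pi.smul_apply, hm]
    have hx : Keep J' ((wd u : WE F)⁻¹ * w) :=
      hbase (hmul (hinv (hreps _ hu')) hw) fun c => by
        rw [lin_mul, hfun, ← lin_mul, inv_mul_cancel, lin_one]
    exact ⟨(⟨n, hn⟩, ⟨_, hx⟩), Subtype.ext (mul_inv_cancel_left _ _)⟩
  rw [← Finset.sum_filter, ← Finset.sum_filter, ← Finset.sum_subtype_eq_sum_filter,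
    ← Finset.sum_subtype_eq_sum_filter, Finset.subtype_univ, Finset.subtype_univ,
    ← (Equiv.ofBijective f ⟨hinj, hsurj⟩).sum_comp, Fintype.sum_prod_type,
    show (reps.map fun u => q ^ wtA p.val u).sum = ∑ a : Fin reps.length, q ^ wtA p.val reps[a.val] by
      rw [← List.sum_ofFn]
      exact congrArg List.sum (List.ext_getElem (by simp) fun i _ _ => by simp), Finset.sum_mul]
  refine Finset.sum_congr rfl fun a _ => ?_
  rw [Finset.mul_sum]
  refine Finset.sum_congr rfl fun x _ => ?_
  show q ^ wt p.val ((wd reps[a.val] : WE F) * x.1) = _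
  rw [wt_mul p hp x.2 (hpos _ (List.getElem_mem _)), pow_add, wt_wd p.val (hu _ (List.getElem_mem _)).1]

open Classical in
/-- The weighted sum over the subgroup of a chain. -/
theorem chain_sum [Fintype (WE F)] (q : ℕ) (p : Fin 8) : ∀ C : List Lv, chkChain p.val C = true →
    (∑ x : WE F, if Keep (C.map Lv.i0) x then q ^ wt p.val x else 0)
      = (C.map fun L => (L.reps.map fun u => q ^ wtA p.val u).sum).prod := by
  intro C
  induction C with
  | nil =>
    intro _
    simp only [List.map_nil]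
    rw [Finset.sum_eq_single (1 : WE F)
      (fun b _ hb => if_neg fun h => hb (keep_nil h)) (by simp), if_pos (Keep.one _), wt_one]
    simp
  | cons L C ih =>
    intro h
    rw [chkChain, Bool.and_eq_true] at h
    obtain ⟨hL, hC⟩ := h
    simp only [chkLv, Bool.and_eq_true, decide_eq_true_eq, List.all_eq_true, Bool.not_eq_true',
      beq_eq_false_iff_ne, List.contains_iff_mem] at hL
    obtain ⟨⟨⟨⟨⟨hchk, hi⟩, hpi⟩, hword⟩, hbase⟩, hclos⟩ := hL
    have hp : p.val ∉ C.map Lv.i0 := by
      clear ih hchk hword hclos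
      induction C with
      | nil => simp
      | cons L' C ih' =>
        rw [chkChain, Bool.and_eq_true] at hC
        simp only [List.map_cons, List.mem_cons, not_or]
        have hL' := hC.1
        simp only [chkLv, Bool.and_eq_true, decide_eq_true_eq, Bool.not_eq_true',
          beq_eq_false_iff_ne] at hL'
        exact ⟨fun e => hL'.1.1.1.2 e.symm, ih' hC.2⟩
    have hu : ∀ u ∈ L.reps, ∀ i ∈ u, i < 8 := by
      simp only [chkReps, Bool.and_eq_true, List.all_eq_true, decide_eq_true_eq] at hchk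
      exact fun u hu => (hchk.1.1.1.1 u hu).1
    rw [List.map_cons, List.map_cons, List.prod_cons, ← ih hC]
    refine split_sum q p (Keep (L.i0 :: C.map Lv.i0)) hp ⟨L.i0, hi⟩ hchk (fun hv hw => hv.mul hw)
      (fun hw => hw.inv) (fun hx => hx.mono fun j hj => List.mem_cons_of_mem _ hj)
      (fun hx h0 m hm c => ?_) (fun u hu' => keep_wd fun i hi' => ⟨hu u hu' i hi', hword u hu' i hi'⟩)
      ?_
    · by_cases e : m.val = L.i0
      · obtain rfl : m = ⟨L.i0, hi⟩ := Fin.ext e
        exact h0 c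
      · exact hx m (by simp [e, hm]) c
    · intro g hg
      refine keep_induction (P := fun g => kl L.i0 g ∈ L.keys) ?_ (fun g i hi' _ hk => ?_) g hg
      · rw [kl_one ⟨L.i0, hi⟩]; exact hbase
      · show kl (⟨L.i0, hi⟩ : Fin 8).val _ ∈ _
        rw [kl_step]
        exact hclos _ hk i.val hi'

end Cfsg.Agent.H37.OddInv.E8
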