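import Cfsg.Agent.H37.OddInv.Reduce

/-!
Several commuting negated roots: an odd total pairing with a root moved by the product of their
reflections makes some coefficient a square.
-/

set_option autoImplicit false

namespace Cfsg.Agent.H37.OddInv

open Cfsg.Lie Cfsg.Agent.H37 Cfsg.Agent.H37.RootSys
open Cfsg.Agent.Chevalley (pairingSum)
open Cfsg.Agent.H87 (upMat lowMat)
open Cfsg.Agent.H54.G2 (wM dM sl2_induction isSquare_mul_nonsquare)
open scoped MatrixGroups

variable {D : ChevalleyDatum} {F : Type*} [Field F] (Q : Chev.Data D F)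

/-- Two orthogonal roots with commuting root subgroups. -/
def Orth (r s : ℕ) : Prop :=
  r < D.nroots ∧ s < D.nroots ∧ pairingSum D r s = 0 ∧
    ∀ t u : F, Commute (xg Q r t) (xg Q s u) ∧ Commute (xg Q r t) (xg Q (D.neg s) u) ∧
      Commute (xg Q (D.neg r) t) (xg Q s u) ∧ Commute (xg Q (D.neg r) t) (xg Q (D.neg s) u)

theorem commute_of_sl2 {G : Type*} [Group G] (φ : SL(2, F) →* G) (g : G)
    (hu : ∀ t, Commute (φ (upMat t)) g) (hl : ∀ t, Commute (φ (lowMat t)) g) (A : SL(2, F)) :
    Commute (φ A) g := by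
  refine sl2_induction (p := fun A => Commute (φ A) g) hu hl ?_ (fun A B ha hb => ?_)
    (fun A ha => ?_) A
  · rw [map_one]; exact Commute.one_left g
  · rw [map_mul]; exact Commute.mul_left ha hb
  · rw [map_inv]; exact Commute.inv_left ha

theorem phi_commute {r s : ℕ} (hr : r < D.nroots) (hs : s < D.nroots) (h : Orth Q r s)
    (A B : SL(2, F)) : Commute (phi Q hr A) (phi Q hs B) := by
  refine commute_of_sl2 _ _ (fun t => ?_) (fun t => ?_) A
  · refine (commute_of_sl2 _ _ (fun u => ?_) (fun u => ?_) B).symm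
    · rw [phi_up, phi_up]; exact (h.2.2.2 t u).1.symm
    · rw [phi_low, phi_up]; exact (h.2.2.2 t u).2.1.symm
  · refine (commute_of_sl2 _ _ (fun u => ?_) (fun u => ?_) B).symm
    · rw [phi_up, phi_low]; exact (h.2.2.2 t u).2.2.1.symm
    · rw [phi_low, phi_low]; exact (h.2.2.2 t u).2.2.2.symm

theorem nn_commute {r s : ℕ} (h : Orth Q r s) (a b : Fˣ) :
    Commute (nG' Q r (a : F)) (nG' Q s (b : F)) := by
  rw [← phi_wM Q h.1, ← phi_wM Q h.2.1]; exact phi_commute Q h.1 h.2.1 h _ _

theorem nh_commute {r s : ℕ} (h : Orth Q r s) (a b : Fˣ) :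
    Commute (nG' Q r (a : F)) (hG' Q s (b : F)) := by
  rw [← phi_wM Q h.1, ← phi_dM Q h.2.1]; exact phi_commute Q h.1 h.2.1 h _ _

theorem hh_commute {r s : ℕ} (h : Orth Q r s) (a b : Fˣ) :
    Commute (hG' Q r (a : F)) (hG' Q s (b : F)) := by
  rw [← phi_dM Q h.1, ← phi_dM Q h.2.1]; exact phi_commute Q h.1 h.2.1 h _ _

theorem hn_commute {r s : ℕ} (h : Orth Q r s) (a b : Fˣ) :
    Commute (hG' Q r (a : F)) (nG' Q s (b : F)) := by
  rw [← phi_dM Q h.1, ← phi_wM Q h.2.1]; exact phi_commute Q h.1 h.2.1 h _ _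

/-- The product of the `n_r(1)`. -/
def nL (L : List ℕ) : ↥(D.group F) := (L.map fun r => nG' Q r ((1 : Fˣ) : F)).prod

/-- The product of the `h_r(a_r)`. -/
def hL (L : List ℕ) (a : ℕ → Fˣ) : ↥(D.group F) := (L.map fun r => hG' Q r (a r : F)).prod

theorem commute_hL {g : ↥(D.group F)} {L : List ℕ} {a : ℕ → Fˣ}
    (h : ∀ s ∈ L, Commute g (hG' Q s (a s : F))) : Commute g (hL Q L a) :=
  Commute.list_prod_right _ _ fun x hx => by
    obtain ⟨s, hs, rfl⟩ := List.mem_map.1 hx
    exact h s hs

theorem commute_nL {g : ↥(D.group F)} {L : List ℕ}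
    (h : ∀ s ∈ L, Commute g (nG' Q s ((1 : Fˣ) : F))) : Commute g (nL Q L) :=
  Commute.list_prod_right _ _ fun x hx => by
    obtain ⟨s, hs, rfl⟩ := List.mem_map.1 hx
    exact h s hs

variable {L : List ℕ}

theorem nL_sq (hL' : L.Pairwise (Orth Q)) :
    nL Q L * nL Q L * hL Q L (fun _ => -1) = 1 := by
  induction L with
  | nil => simp [nL, hL]
  | cons r L ih =>
    rw [List.pairwise_cons] at hL'
    set n := nG' Q r ((1 : Fˣ) : F) with hn
    set h := hG' Q r ((-1 : Fˣ) : F) with hh
    set N := nL Q L with hN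
    set H := hL Q L (fun _ => -1) with hH
    rw [show nL Q (r :: L) = n * N from List.prod_cons,
      show hL Q (r :: L) (fun _ => -1) = h * H from List.prod_cons]
    have c1 : Commute n N := commute_nL Q fun s hs => nn_commute Q (hL'.1 s hs) _ _
    have c2 : Commute h H := commute_hL Q fun s hs => hh_commute Q (hL'.1 s hs) _ _
    have c3 : Commute h N := commute_nL Q fun s hs => hn_commute Q (hL'.1 s hs) _ _
    have hsq : n * n * h = 1 := by
      refine Subtype.ext ?_
      rw [hn, hh, Subgroup.coe_mul, Subgroup.coe_mul, Subgroup.coe_one, coe_nG', coe_hG', Q.K.hU_eq,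
        Units.val_neg, Units.val_one, ← Q.K.nU_inv F r 1]
      group
    calc n * N * (n * N) * (h * H) = n * (N * n) * (N * h) * H := by group
      _ = n * (n * N) * (h * N) * H := by rw [c1.eq, c3.eq]
      _ = n * n * (N * h) * N * H := by group
      _ = n * n * h * (N * N * H) := by rw [← c3.eq]; group
      _ = 1 := by rw [hsq, ih hL'.2, one_mul]

theorem m_nL {m : ↥(D.group F)} (hsq : m * m = 1) (c : ℕ → Fˣ)
    (hc : ∀ r ∈ L, (∀ t, m * xg Q r t * m = xg Q (D.neg r) ((c r : F) * t)) ∧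
      (∀ t, m * xg Q (D.neg r) t * m = xg Q r ((c r : F)⁻¹ * t)))
    (hL' : L.Pairwise (Orth Q)) (hlt : ∀ r ∈ L, r < D.nroots) :
    m * nL Q L * m = hL Q L (fun r => -(c r)⁻¹) * nL Q L := by
  induction L with
  | nil => simpa [nL, hL] using hsq
  | cons r L ih =>
    rw [List.pairwise_cons] at hL'
    have hr := hlt r List.mem_cons_self
    obtain ⟨h1, h2⟩ := hc r List.mem_cons_self
    have h0 := phi_theta Q hsq hr h1 h2 (wM (1 : Fˣ))
    rw [phi_wM, theta_wM_one, phi_wM] at h0
    set n := nG' Q r ((1 : Fˣ) : F) with hn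
    set h := hG' Q r ((-(c r)⁻¹ : Fˣ) : F) with hh
    set N := nL Q L with hN
    set H := hL Q L (fun r => -(c r)⁻¹) with hH
    rw [show nL Q (r :: L) = n * N from List.prod_cons,
      show hL Q (r :: L) (fun r => -(c r)⁻¹) = h * H from List.prod_cons]
    have e : nG' Q r ((-(c r)⁻¹ : Fˣ) : F) = h * n := by
      rw [hh, hn, Units.val_one]; exact nG'_eq Q r _
    rw [e] at h0
    have ih' := ih (fun s hs => hc s (List.mem_cons_of_mem _ hs)) hL'.2
      (fun s hs => hlt s (List.mem_cons_of_mem _ hs))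
    have c4 : Commute n H := commute_hL Q fun s hs => nh_commute Q (hL'.1 s hs) _ _
    calc m * (n * N) * m = m * n * (m * m) * N * m := by rw [hsq]; group
      _ = m * n * m * (m * N * m) := by group
      _ = h * (n * H) * N := by rw [h0, ih']; group
      _ = h * H * (n * N) := by rw [c4.eq]; group

theorem hL_conj (a : ℕ → Fˣ) (hlt : ∀ r ∈ L, r < D.nroots) {x : ℕ} (hx : x < D.nroots) (t : F) :
    hL Q L a * xg Q x t * (hL Q L a)⁻¹ =
      xg Q x ((((L.map fun r => a r ^ pairingSum D r x).prod : Fˣ) : F) * t) := by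
  induction L with
  | nil => simp [hL]
  | cons r L ih =>
    rw [show hL Q (r :: L) a = hG' Q r (a r : F) * hL Q L a from List.prod_cons, mul_inv_rev,
      show ∀ g k y l : ↥(D.group F), g * k * y * (k⁻¹ * l) = g * (k * y * k⁻¹) * l from
        fun g k y l => by group, ih fun s hs => hlt s (List.mem_cons_of_mem _ hs),
      List.map_cons, List.prod_cons, Units.val_mul, mul_assoc ((a r ^ _ : Fˣ) : F)]
    refine Subtype.ext ?_
    rw [Subgroup.coe_mul, Subgroup.coe_mul, Subgroup.coe_inv, coe_hG', coe_xG, coe_xG,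
      Q.K.hU_conj_xU F (hlt r List.mem_cons_self) hx (a r)]

theorem ps_lin (r : ℕ) {y : ℕ} (hy : y < D.nroots) :
    pairingSum D r y = ∑ j ∈ Finset.range D.rank, Q.K.cf y j * pairingSum D r (D.simple j) := by
  simp only [pairingSum, Finset.mul_sum]
  rw [Finset.sum_comm]
  refine Finset.sum_congr rfl fun m hm => ?_
  rw [Q.K.cartan_lin m (Finset.mem_range.1 hm) y hy, Chevalley.list_sum_range_map, Finset.mul_sum]
  exact Finset.sum_congr rfl fun j _ => by ring

theorem nL_conj (hL' : L.Pairwise (Orth Q)) (hlt : ∀ r ∈ L, r < D.nroots) {x : ℕ}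
    (hx : x < D.nroots) : ∃ y < D.nroots,
      (∀ j < D.rank,
        Q.K.cf y j = Q.K.cf x j - (L.map fun r => pairingSum D r x * Q.K.cf r j).sum) ∧
      ∃ e : Fˣ, ∀ t, nL Q L * xg Q x t * (nL Q L)⁻¹ = xg Q y ((e : F) * t) := by
  induction L with
  | nil => exact ⟨x, hx, fun j _ => by simp, 1, fun t => by simp [nL]⟩
  | cons r L ih =>
    rw [List.pairwise_cons] at hL'
    have hr := hlt r List.mem_cons_self
    have hlt' : ∀ s ∈ L, s < D.nroots := fun s hs => hlt s (List.mem_cons_of_mem _ hs)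
    obtain ⟨y, hy, hyc, e, he⟩ := ih hL'.2 hlt'
    obtain ⟨y', ⟨hy', hyc'⟩, l, hl⟩ := nU_conj_root Q r hr 1 y hy
    have hps : pairingSum D r y = pairingSum D r x := by
      rw [ps_lin Q r hy, ps_lin Q r hx, ← sub_eq_zero, ← Finset.sum_sub_distrib]
      have : ∀ j ∈ Finset.range D.rank,
          Q.K.cf y j * pairingSum D r (D.simple j) - Q.K.cf x j * pairingSum D r (D.simple j)
            = -(L.map fun s => pairingSum D s x * (Q.K.cf s j * pairingSum D r (D.simple j))).sum := by
        intro j hj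
        rw [← sub_mul, hyc j (Finset.mem_range.1 hj), sub_sub_cancel_left, neg_mul,
          ← List.sum_map_mul_right]
        simp only [mul_assoc]
      rw [Finset.sum_congr rfl this, Finset.sum_neg_distrib, neg_eq_zero]
      clear this hyc he ih hlt
      revert hlt'
      have ho := hL'.1
      revert ho
      clear hL'
      intro ho hlt'
      induction L with
      | nil => simp
      | cons s L ih2 =>
        simp only [List.map_cons, List.sum_cons, Finset.sum_add_distrib]
        rw [ih2 (fun a ha => ho a (List.mem_cons_of_mem _ ha))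
            (fun a ha => hlt' a (List.mem_cons_of_mem _ ha)), add_zero, ← Finset.mul_sum,
          ← ps_lin Q r (hlt' s List.mem_cons_self), (ho s List.mem_cons_self).2.2.1, mul_zero]
    refine ⟨y', hy', fun j hj => ?_, l * e, fun t => ?_⟩
    · rw [hyc' j hj, hyc j hj, hps, List.map_cons, List.sum_cons]; ring
    · rw [show nL Q (r :: L) = nG' Q r ((1 : Fˣ) : F) * nL Q L from List.prod_cons, mul_inv_rev,
        show ∀ g k z l : ↥(D.group F), g * k * z * (k⁻¹ * l) = g * (k * z * k⁻¹) * l from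
          fun g k z l => by group, he, Units.val_mul, mul_assoc (l : F)]
      refine Subtype.ext ?_
      rw [Subgroup.coe_mul, Subgroup.coe_mul, Subgroup.coe_inv, coe_nG', coe_xG, coe_xG, hl]

/-- The coefficients of commuting negated roots: their weighted product is a square. -/
theorem multi_square {m : ↥(D.group F)} {w : Q.X.M.Group} (hm : Acts Q m w) (hw : w * w = 1)
    (hsq : m * m = 1) (hL' : L.Pairwise (Orth Q)) (hlt : ∀ r ∈ L, r < D.nroots) (c : ℕ → Fˣ)
    (hc : ∀ r ∈ L, (∀ t, m * xg Q r t * m = xg Q (D.neg r) ((c r : F) * t)) ∧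
      (∀ t, m * xg Q (D.neg r) t * m = xg Q r ((c r : F)⁻¹ * t))) {x : ℕ} (hx : x < D.nroots)
    (hrefl : ∀ j < D.rank, Q.K.cf (rho Q w x) j
      = Q.K.cf x j - (L.map fun r => pairingSum D r x * Q.K.cf r j).sum)
    (hodd : Odd (L.map fun r => pairingSum D r x).sum) :
    IsSquare (L.map fun r => c r ^ pairingSum D r x).prod := by
  obtain ⟨y, hy, hyc, e, hnx⟩ := nL_conj Q hL' hlt hx
  obtain rfl : y = rho Q w x :=
    Q.K.eq_of_cf hy (rho_lt Q w hx) fun j hj => by rw [hyc j hj, hrefl j hj]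
  set y := rho Q w x with hydef
  have einv : m⁻¹ = m := inv_eq_of_mul_eq_one_right hsq
  set n := nL Q L
  have hpow : ∀ a : ℕ → Fˣ, ((L.map fun r => (-(a r)) ^ pairingSum D r x).prod : Fˣ)
      = -(L.map fun r => a r ^ pairingSum D r x).prod := by
    intro a
    have : ((L.map fun r => (-(a r)) ^ pairingSum D r x).prod : Fˣ)
        = (-1) ^ (L.map fun r => pairingSum D r x).sum * (L.map fun r => a r ^ pairingSum D r x).prod := by
      clear hodd hrefl hc hnx hyc hlt hL' n
      induction L with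
      | nil => simp
      | cons r L ih =>
        simp only [List.map_cons, List.prod_cons, List.sum_cons]
        rw [ih, zpow_add, ← neg_one_mul (a r), mul_zpow]
        exact mul_mul_mul_comm _ _ _ _
    rw [this, hodd.neg_one_zpow, neg_one_mul]
  have hnnx : ∀ t, n * n * xg Q x t * (n * n)⁻¹ = xg Q x (-t) := fun t => by
    rw [eq_inv_of_mul_eq_one_left (nL_sq Q hL'), inv_inv]
    have h := hL_conj Q (fun _ => (-1 : Fˣ)) hlt hx (-t)
    rw [hpow fun _ => (1 : Fˣ)] at h
    simp at h
    rw [← h]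
    group
  have hny : ∀ u, n * xg Q y u * n⁻¹ = xg Q x (-((e : F)⁻¹ * u)) := fun u => by
    rw [← hnnx ((e : F)⁻¹ * u), show ∀ z, n * n * z * (n * n)⁻¹ = n * (n * z * n⁻¹) * n⁻¹ from
      fun z => by group, hnx, mul_inv_cancel_left₀ e.ne_zero]
  obtain ⟨μ, hμ⟩ := hm x hx
  simp only [einv, ← hydef] at hμ
  have hμ' : ∀ t, m * xg Q y ((μ : F) * t) * m = xg Q x t := fun t => by
    rw [← hμ]
    calc _ = (m * m) * xg Q x t * (m * m) := by group
      _ = _ := by rw [hsq, one_mul, mul_one]
  set a : ℕ → Fˣ := fun r => -(c r)⁻¹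
  have hmn : m * n * m = hL Q L a * n := m_nL Q hsq c hc hL' hlt
  set p : Fˣ := (L.map fun r => a r ^ pairingSum D r x).prod with hp
  have key : xg Q x ((p : F) * (-((e : F)⁻¹ * ((μ : F) * (μ : F))))) = xg Q x (e : F) := by
    rw [← hL_conj Q a hlt hx, ← hny, show ∀ b z, b * (n * z * n⁻¹) * b⁻¹ = (b * n) * z * (b * n)⁻¹ from
      fun b z => by group, ← hmn, ← hμ (μ : F)]
    calc m * n * m * (m * xg Q x (μ : F) * m) * (m * n * m)⁻¹
        = m * (n * (m * m * xg Q x (μ : F) * (m * m)⁻¹ * (m * m)) * n⁻¹) * m⁻¹ := by group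
      _ = m * (n * xg Q x (μ : F) * n⁻¹) * m := by rw [hsq, einv]; group
      _ = xg Q x (e : F) := by rw [hnx, mul_comm (e : F) (μ : F), hμ']
  have h3 := xg_inj Q hx key
  set P : Fˣ := (L.map fun r => c r ^ pairingSum D r x).prod
  have hpP : p = -P⁻¹ := by
    rw [hp, hpow fun r => (c r)⁻¹, List.prod_inv]
    simp [List.map_map, Function.comp_def]
  rw [hpP, Units.val_neg, Units.val_inv_eq_inv_val] at h3
  refine ⟨μ * e⁻¹, Units.ext ?_⟩
  simp only [Units.val_mul, Units.val_inv_eq_inv_val]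
  field_simp at h3 ⊢
  linear_combination (-1 : F) * h3

/-- Some coefficient is a square. -/
theorem exists_square [Fintype F] (h2 : (2 : F) ≠ 0) {m : ↥(D.group F)} {w : Q.X.M.Group}
    (hm : Acts Q m w) (hw : w * w = 1) (hsq : m * m = 1) (hL' : L.Pairwise (Orth Q))
    (hneg : ∀ r ∈ L, Neg Q w r) {x : ℕ} (hx : x < D.nroots)
    (hrefl : ∀ j < D.rank, Q.K.cf (rho Q w x) j
      = Q.K.cf x j - (L.map fun r => pairingSum D r x * Q.K.cf r j).sum)
    (hodd : Odd (L.map fun r => pairingSum D r x).sum) :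
    ∃ (r : ℕ) (c : Fˣ), Neg Q w r ∧ (∀ t, m * xg Q r t * m = xg Q (D.neg r) ((c : F) * t)) ∧
      (∀ t, m * xg Q (D.neg r) t * m = xg Q r ((c : F)⁻¹ * t)) ∧ IsSquare c := by
  classical
  have he : ∀ r : ℕ, ∃ c : Fˣ, r ∈ L → (∀ t, m * xg Q r t * m = xg Q (D.neg r) ((c : F) * t)) ∧
      (∀ t, m * xg Q (D.neg r) t * m = xg Q r ((c : F)⁻¹ * t)) := by
    intro r
    by_cases hr : r ∈ L
    · obtain ⟨c, hc⟩ := exists_coeff Q hm hsq (hneg r hr).1 (hneg r hr).2
      exact ⟨c, fun _ => hc⟩
    · exact ⟨1, fun h => absurd h hr⟩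
  choose c hc using he
  have hP := multi_square Q hm hw hsq hL' (fun r hr => (hneg r hr).1) c hc hx hrefl hodd
  by_contra hne
  have hns : ∀ r ∈ L, ¬ IsSquare (c r) := fun r hr h =>
    hne ⟨r, c r, hneg r hr, (hc r hr).1, (hc r hr).2, h⟩
  have key : IsSquare (L.map fun r => c r ^ pairingSum D r x).prod ↔
      Even (L.map fun r => pairingSum D r x).sum := by
    clear hP hodd hrefl hc hne hneg hL'
    induction L with
    | nil => simp
    | cons r L ih =>
      have ih := ih fun s hs => hns s (List.mem_cons_of_mem _ hs)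
      have hr := hns r List.mem_cons_self
      simp only [List.map_cons, List.prod_cons, List.sum_cons, Int.even_add]
      set k := pairingSum D r x
      set P := (L.map fun r => c r ^ pairingSum D r x).prod
      rcases Int.even_or_odd k with hk | hk
      · have hsq' : IsSquare (c r ^ k) := hk.isSquare_zpow _
        constructor
        · intro h
          have := hsq'.inv.mul h
          rw [inv_mul_cancel_left] at this
          exact iff_of_true hk (ih.1 this)
        · intro h
          exact hsq'.mul (ih.2 (h.1 hk))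
      · have hn' : ¬ IsSquare (c r ^ k) := fun h => hr (isSquare_of_zpow hk h)
        constructor
        · intro h
          refine iff_of_false (Int.not_even_iff_odd.2 hk) fun he => hn' ?_
          have := h.mul (ih.2 he).inv
          rwa [mul_inv_cancel_right] at this
        · intro h
          exact isSquare_mul_nonsquare h2 hn' fun hP => (Int.not_even_iff_odd.2 hk) (h.2 (ih.1 hP))
  exact Int.not_even_iff_odd.2 hodd (key.1 hP)

end Cfsg.Agent.H37.OddInv
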