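import Cfsg.Agent.H37.OddInv.E8Weyl
import Cfsg.Agent.H37.OddInv.Multi

/-!
E₈: every involution of the monomial subgroup can be moved into the diagonal subgroup.
-/

set_option autoImplicit false
set_option Elab.async false
set_option maxRecDepth 100000

namespace Cfsg.Agent.H37.OddInv.E8

open Cfsg.Lie Cfsg.Agent.H37 Cfsg.Agent.H37.RootSys
open Cfsg.Agent.Chevalley (pairingSum)

variable {F : Type*} [Field F]

theorem B_neg_left (c d : Vc) : B (-c) d = -B c d := by
  simp [B]

theorem B_neg_right (c d : Vc) : B c (-d) = -B c d := by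
  rw [B_symm, B_neg_left, B_symm]

theorem xg_commute {r s : ℕ} (hr : r < chevE8.nroots) (hs : s < chevE8.nroots)
    (h : B (cv r) (cv s) = 0) (t u : F) : Commute (xg (Qd F) r t) (xg (Qd F) s u) := by
  have h1 : r ≠ s := fun e => by subst e; rw [B_self hr] at h; omega
  have h2 : r ≠ chevE8.neg s := fun e => by
    subst e
    rw [cv_neg hs, B_neg_left, B_self hs] at h
    omega
  have he : {k | Combo (Qd F).K r s k} = (∅ : Set ℕ) := by
    refine Set.eq_empty_iff_forall_notMem.2 fun k hk => ?_
    obtain ⟨hk1, a, b, ha, hb, e⟩ := hk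
    have e' : cv k = (a : ℤ) • cv r + (b : ℤ) • cv s := funext fun i => by
      show Chevalley.E8.cert.cf k i.val = _
      exact e i.val i.isLt
    have h3 := B_self hk1
    rw [e'] at h3
    simp only [B_add_left, B_add_right, B_smul_left, B_smul_right, B_symm (cv s) (cv r), h,
      B_self hr, B_self hs, mul_zero, add_zero, zero_add] at h3
    have ha' : (1 : ℤ) ≤ a := by exact_mod_cast ha
    have hb' : (1 : ℤ) ≤ b := by exact_mod_cast hb
    nlinarith
  have hm := xG_comm (Qd F).K (F := F) hr hs h1 h2 t u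
  rw [he, XS_empty, Subgroup.mem_bot, mul_inv_eq_one, mul_inv_eq_iff_eq_mul] at hm
  exact hm

theorem orth_of_B {r s : ℕ} (hr : r < chevE8.nroots) (hs : s < chevE8.nroots)
    (h : B (cv r) (cv s) = 0) : Orth (Qd F) r s := by
  have hr' := Chevalley.E8.cert.neg_lt hr
  have hs' := Chevalley.E8.cert.neg_lt hs
  refine ⟨hr, hs, (ps_eq hr hs).trans h, fun t u => ⟨xg_commute hr hs h t u, xg_commute hr hs' ?_ t u,
    xg_commute hr' hs ?_ t u, xg_commute hr' hs' ?_ t u⟩⟩ <;>
  simp [cv_neg hr, cv_neg hs, B_neg_left, B_neg_right, h]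

/-- The condition for the descent. -/
theorem reducible [Fintype F] (h2 : (2 : F) ≠ 0) (m : ↥(chevE8.group F)) (w : WE F)
    (hm : Acts (Qd F) m w) (hsq : m * m = 1) (hw : w * w = 1) (h1 : w ≠ 1) :
    (∃ r s, Neg (Qd F) w r ∧ Neg (Qd F) w s ∧ Odd (pairingSum chevE8 s r)) ∨
      ∃ (r : ℕ) (c : Fˣ), Neg (Qd F) w r ∧
        (∀ t, m * xg (Qd F) r t * m = xg (Qd F) (chevE8.neg r) ((c : F) * t)) ∧
        (∀ t, m * xg (Qd F) (chevE8.neg r) t * m = xg (Qd F) r ((c : F)⁻¹ * t)) ∧ IsSquare c := by
  classical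
  obtain ⟨R, hR, ho, hl⟩ := exists_orth w hw
  have hneg_of : ∀ r, r < chevE8.nroots → lin w (cv r) = -cv r → Neg (Qd F) w r := fun r hr h =>
    ⟨hr, cv_inj (rho_lt _ w hr) (Chevalley.E8.cert.neg_lt hr) (by rw [rho_lin w r hr, h, cv_neg hr])⟩
  have hlin : ∀ r ∈ R, lin w (cv r) = -cv r := fun r hr => by
    rw [hl, Finset.sum_eq_single r (fun b hb hne => by rw [ho b hb r hr hne, zero_smul])
      (fun h => absurd hr h), B_self (hR r hr), two_smul]
    abel
  have hne : R.Nonempty := by
    rw [Finset.nonempty_iff_ne_empty]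
    rintro rfl
    exact h1 (eq_of_lin fun c => by rw [hl, lin_one]; simp)
  by_cases hodd : ∃ r s, Neg (Qd F) w r ∧ Neg (Qd F) w s ∧ Odd (pairingSum chevE8 s r)
  · exact Or.inl hodd
  by_cases hex : ∃ i : Fin 8, Odd (∑ r ∈ R, B (cv r) (Pi.single i 1))
  · obtain ⟨i, hi⟩ := hex
    refine Or.inr (exists_square (Qd F) (L := R.toList) (x := chevE8.simple i.val) h2 hm hw hsq ?_
      (fun r hr => hneg_of r (hR r (Finset.mem_toList.1 hr)) (hlin r (Finset.mem_toList.1 hr)))
      (simple_lt i) (fun j hj => ?_) ?_)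
    · exact (List.Pairwise.and_mem.1 R.nodup_toList).imp fun ⟨ha, hb, hne⟩ =>
        orth_of_B (hR _ (Finset.mem_toList.1 ha)) (hR _ (Finset.mem_toList.1 hb))
          (ho _ (Finset.mem_toList.1 ha) _ (Finset.mem_toList.1 hb) hne)
    · have h := congrFun (rho_lin w _ (simple_lt i)) ⟨j, hj⟩
      rw [hl] at h
      simp only [Pi.sub_apply, Finset.sum_apply, Pi.smul_apply, smul_eq_mul] at h
      show Chevalley.E8.cert.cf _ _ = Chevalley.E8.cert.cf _ _ - _
      rw [Finset.sum_map_toList]
      refine Eq.trans h (congrArg _ (Finset.sum_congr rfl fun r hr => ?_))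
      rw [ps_eq (hR r hr) (simple_lt i)]
      rfl
    · rw [Finset.sum_map_toList,
        Finset.sum_congr rfl fun r hr => by rw [ps_eq (hR r hr) (simple_lt i), cv_simple]]
      exact hi
  exfalso
  apply hodd
  push Not at hex
  set S := ∑ r ∈ R, cv r with hS
  have hav : ∀ i, Even (av S i) := fun i => by
    rw [← B_single, hS, B_sum_right,
      Finset.sum_congr rfl fun r _ => B_symm (Pi.single i 1) (cv r)]
    exact Int.not_odd_iff_even.1 (hex i)
  set y := gv (fun i => av S i / 2) with hy
  have hSy : S = (2 : ℤ) • y := av_inj (by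
    funext i
    rw [av_smul, hy, av_gv]
    simp only [Pi.smul_apply, smul_eq_mul]
    exact (Int.mul_ediv_cancel' (hav i).two_dvd).symm)
  have hSr : ∀ r ∈ R, B S (cv r) = 2 := fun r hr => by
    rw [hS, B_sum_left, Finset.sum_eq_single r (fun b hb hne => ho b hb r hr hne)
      (fun h => absurd hr h), B_self (hR r hr)]
  have hcard : 2 * B y y = (R.card : ℤ) := by
    have h : B S S = 2 * (R.card : ℤ) := by
      rw [hS, B_sum_right, ← hS, Finset.sum_congr rfl hSr, Finset.sum_const, nsmul_eq_mul]
      ring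
    rw [hSy, B_smul_left, B_smul_right] at h
    omega
  have h8 : R.card ≤ 8 := by
    have := card_le_eight (fun r : R => cv r) (fun r => by rw [B_self (hR r r.2)]; omega)
      (fun a b hne => ho a a.2 b b.2 fun e => hne (Subtype.ext e))
    simpa using this
  have hpos := Finset.card_pos.2 hne
  obtain ⟨k, hk⟩ := B_even y
  obtain ⟨r0, hr0⟩ := hne
  rcases (show R.card = 4 ∨ R.card = 8 by omega) with h4 | h4
  · obtain ⟨ry, hry, hyy⟩ := root_of_norm y (by omega)
    have hwy : lin w y = -y := by
      have h : lin w S = -S := by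
        rw [hS, lin_sum, Finset.sum_congr rfl hlin, Finset.sum_neg_distrib]
      rw [hSy, lin_smul] at h
      funext i
      have := congrFun h i
      simp only [Pi.smul_apply, Pi.neg_apply, smul_eq_mul] at this ⊢
      omega
    have hB : B y (cv r0) = 1 := by
      have := hSr r0 hr0
      rw [hSy, B_smul_left] at this
      omega
    refine ⟨r0, ry, hneg_of r0 (hR r0 hr0) (hlin r0 hr0), hneg_of ry hry (by rw [hyy, hwy]), ?_⟩
    rw [ps_eq hry (hR r0 hr0), hyy, hB]
    exact odd_one
  · have hall : ∀ i : Fin 8, lin w (Pi.single i 1) = -Pi.single i 1 := by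
      intro i
      set c : Vc := Pi.single i 1
      set d := c + lin w c with hd
      by_contra hcne
      have hd0 : d ≠ 0 := fun h => hcne (eq_neg_of_add_eq_zero_right h)
      have hdr : ∀ r ∈ R, B (cv r) d = 0 := fun r hr => by
        have h := lin_B w (cv r) c
        rw [hlin r hr, B_neg_left] at h
        rw [hd, B_add_right]
        omega
      have h9 := card_le_eight (fun o : Option R => o.elim d fun r => cv r) (fun o => ?_)
        (fun a b hne => ?_)
      · simp at h9; omega
      · rcases o with _ | r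
        · exact fun h => hd0 (B_eq_zero h)
        · simp only [Option.elim]; rw [B_self (hR r r.2)]; omega
      · rcases a with _ | a <;> rcases b with _ | b <;> simp only [Option.elim]
        · exact absurd rfl hne
        · rw [B_symm]; exact hdr b b.2
        · exact hdr a a.2
        · exact ho a a.2 b b.2 fun e => hne (by rw [Subtype.ext e])
    refine ⟨chevE8.simple (0 : Fin 8).val, chevE8.simple (2 : Fin 8).val,
      hneg_of _ (simple_lt 0) (by rw [cv_simple]; exact hall 0),
      hneg_of _ (simple_lt 2) (by rw [cv_simple]; exact hall 2), ?_⟩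
    rw [ps_eq (simple_lt 2) (simple_lt 0), cv_simple, cv_simple, B_single]
    decide

end Cfsg.Agent.H37.OddInv.E8
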