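import Cfsg.Agent.H37.OddInv.E8Lattice
import Cfsg.Agent.H37.Weyl.Descent

/-!
The Weyl group of E₈ acting linearly on the root lattice, and the decomposition of its involutions
into reflections in orthogonal roots.
-/

set_option autoImplicit false
set_option Elab.async false
set_option linter.unusedSectionVars false

namespace Cfsg.Agent.H37.OddInv

open Cfsg.Lie Cfsg.Agent.H37 Cfsg.Agent.H37.RootSys Cfsg.Agent.H37.Weyl
open Cfsg.Agent.Chevalley (pairingSum)

section Inv

variable {n : ℕ} {M : CoxeterMatrix (Fin n)} {C : Weyl.Cert} {D : ChevalleyDatum}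
  (hC : Weyl.Good C D M)
include hC

/-- An element and its inverse have the same number of inversions. -/
theorem inv_inv_eq (g : M.Group) : hC.inv g⁻¹ = hC.inv g := by
  suffices ∀ g : M.Group, hC.inv g ≤ hC.inv g⁻¹ from
    le_antisymm ((this g⁻¹).trans_eq (by rw [_root_.inv_inv])) (this g)
  intro g
  have hev := hC.even
  rw [← Sys.card_flip g, ← Sys.card_flip g⁻¹]
  refine Finset.card_le_card_of_injOn
    (fun r => D.nroots - 1 - Chevalley.Weights.act hC g r) ?_ ?_
  · intro r hr
    rw [Finset.mem_coe] at hr ⊢
    obtain ⟨hr1, hr2, hr3⟩ := Sys.mem_flip.1 hr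
    rw [← Chevalley.Weights.act_eq g hr1] at hr3
    show D.nroots - 1 - Chevalley.Weights.act hC g r ∈ Sys.flip hC g⁻¹
    refine Sys.mem_flip.2 ⟨by omega, by omega, ?_⟩
    rw [← Chevalley.Weights.act_eq g⁻¹, Chevalley.Weights.act_neg g⁻¹ (Chevalley.Weights.act_lt g hr1),
      Chevalley.Weights.act_inv_act g hr1]
    omega
  · intro a ha b hb e
    rw [Finset.mem_coe] at ha hb
    obtain ⟨ha1, -, -⟩ := Sys.mem_flip.1 ha
    obtain ⟨hb1, -, -⟩ := Sys.mem_flip.1 hb
    have := Chevalley.Weights.act_lt g ha1 (hC := hC)
    have := Chevalley.Weights.act_lt g hb1 (hC := hC)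
    have e' : Chevalley.Weights.act hC g a = Chevalley.Weights.act hC g b := by
      simp only at e; omega
    rw [← Chevalley.Weights.act_inv_act g ha1 (hC := hC), e', Chevalley.Weights.act_inv_act g hb1]

end Inv

namespace E8

variable (F : Type*) [Field F]

/-- The data. -/
abbrev Qd : Chev.Data chevE8 F := Chev.dataE8 F

variable {F}

/-- The Weyl group. -/
abbrev WE (F : Type*) [Field F] := (Qd F).X.M.Group

/-- The fundamental reflection. -/
noncomputable abbrev si (i : Fin 8) : WE F := (Qd F).X.M.simple i

/-- The linear map of a Weyl-group element. -/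
noncomputable def lin (w : WE F) (c : Vc) : Vc :=
  ∑ j : Fin 8, c j • cv (rho (Qd F) w (chevE8.simple j.val))

theorem simple_lt (i : Fin 8) : chevE8.simple i.val < chevE8.nroots :=
  (Chevalley.E8.cert.simple_lt i.val i.isLt).1

theorem lin_add (w : WE F) (c d : Vc) : lin w (c + d) = lin w c + lin w d := by
  simp [lin, add_smul, Finset.sum_add_distrib]

theorem lin_smul (w : WE F) (a : ℤ) (c : Vc) : lin w (a • c) = a • lin w c := by
  simp [lin, Finset.smul_sum, mul_smul]

theorem lin_sum {ι : Type*} (w : WE F) (s : Finset ι) (f : ι → Vc) :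
    lin w (∑ i ∈ s, f i) = ∑ i ∈ s, lin w (f i) := by
  classical
  induction s using Finset.induction with
  | empty => simp [lin]
  | insert a s ha ih => rw [Finset.sum_insert ha, Finset.sum_insert ha, lin_add, ih]

theorem lin_single (w : WE F) (i : Fin 8) :
    lin w (Pi.single i 1) = cv (rho (Qd F) w (chevE8.simple i.val)) := by
  simp [lin, Pi.single_apply]

theorem lin_sub (w : WE F) (c d : Vc) : lin w (c - d) = lin w c - lin w d := by
  simp [lin, sub_smul, Finset.sum_sub_distrib]

theorem rho_lin (w : WE F) : ∀ r < chevE8.nroots, cv (rho (Qd F) w r) = lin w (cv r) := by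
  refine Chevalley.E8.cert.root_induction
    (P := fun r => cv (rho (Qd F) w r) = lin w (cv r)) (fun i hi => ?_) fun i hi r hr ih => ?_
  · rw [cv_simple ⟨i, hi⟩, lin_single]
  · have hs := (Chevalley.E8.cert.simple_lt i hi).1
    have hwr := (Chevalley.E8.cert.w_lt i hi r hr).1
    have key : cv (rho (Qd F) w (Chevalley.E8.cert.w i r))
        = cv (rho (Qd F) w r) - av (cv r) ⟨i, hi⟩ • cv (rho (Qd F) w (chevE8.simple i)) := by
      funext m
      have := rho_comb (Qd F) w (a := av (cv r) ⟨i, hi⟩) hwr hr hs (fun j hj => by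
        show Chevalley.E8.cert.cf _ _ = _
        rw [show Chevalley.E8.cert.cf (Chevalley.E8.cert.w i r) j = cv _ ⟨j, hj⟩ from rfl,
          cv_w ⟨i, hi⟩ hr]
        simp only [Pi.sub_apply, Pi.smul_apply, smul_eq_mul, ← cv_simple ⟨i, hi⟩]
        rfl) m.val m.isLt
      show Chevalley.E8.cert.cf _ _ = Chevalley.E8.cert.cf _ _ - _ * Chevalley.E8.cert.cf _ _
      exact this
    rw [key, ih, cv_w ⟨i, hi⟩ hr, lin_sub, lin_smul, lin_single]

theorem lin_mul (v w : WE F) (c : Vc) : lin (v * w) c = lin v (lin w c) := by
  rw [show lin w c = ∑ j : Fin 8, c j • cv (rho (Qd F) w (chevE8.simple j.val)) from rfl, lin_sum]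
  refine Finset.sum_congr rfl fun j _ => ?_
  rw [lin_smul, ← rho_lin v _ (rho_lt (Qd F) w (simple_lt j))]
  show c j • cv (Chevalley.Weights.act _ (v * w) _) = _
  rw [Chevalley.Weights.act_mul _ _ (simple_lt j)]

theorem lin_one (c : Vc) : lin (1 : WE F) c = c := by
  funext i
  have h : ∀ j : Fin 8, cv (rho (Qd F) 1 (chevE8.simple j.val)) = Pi.single j 1 := fun j => by
    rw [show rho (Qd F) 1 (chevE8.simple j.val) = chevE8.simple j.val from Chevalley.Weights.act_one _,
      cv_simple]
  simp [lin, h, Pi.single_apply]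

theorem lin_B (w : WE F) (c d : Vc) : B (lin w c) (lin w d) = B c d := by
  have h : ∀ j k : Fin 8, B (cv (rho (Qd F) w (chevE8.simple j.val)))
      (cv (rho (Qd F) w (chevE8.simple k.val))) = cm j k := fun j k => by
    rw [← ps_eq (rho_lt (Qd F) w (simple_lt j)) (rho_lt (Qd F) w (simple_lt k))]
    show pairingSum chevE8 (Chevalley.Weights.act _ w _) (Chevalley.Weights.act _ w _) = _
    rw [Chevalley.Weights.act_eq w (simple_lt j), Chevalley.Weights.act_eq w (simple_lt k),
      H51.pairing_hom (Qd F) w, Chevalley.E8.cert.pairing_simple j.isLt, cartan_eq]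
  simp only [lin, B_sum_left, B_sum_right, B_smul_left, B_smul_right, h]
  simp only [B, av, Finset.mul_sum]
  rw [Finset.sum_comm]
  exact Finset.sum_congr rfl fun j _ => Finset.sum_congr rfl fun k _ => by ring

theorem lin_si (i : Fin 8) (c : Vc) : lin (si i : WE F) c = c - av c i • Pi.single i 1 := by
  have h : ∀ j : Fin 8, cv (rho (Qd F) (si i) (chevE8.simple j.val))
      = Pi.single j 1 - cm i j • Pi.single i 1 := fun j => by
    rw [show rho (Qd F) (si i) (chevE8.simple j.val) = Chevalley.E8.cert.w i.val (chevE8.simple j.val)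
      from rho_simple (Qd F) i (simple_lt j), cv_w i (simple_lt j), cv_simple]
    congr 2
    simp [av, Pi.single_apply]
  funext k
  simp [lin, h, av, Finset.sum_apply, Pi.single_apply, mul_sub, Finset.sum_sub_distrib]
  split <;> simp [mul_comm]

theorem si_sq (i : Fin 8) : (si i : WE F) * si i = 1 :=
  (Qd F).X.M.toCoxeterSystem.simple_mul_simple_self i

theorem gen_si (i : Fin 8) : Weyl.gen (Qd F).X.M i.val = (si i : WE F) := Sys.gen_eq i

theorem eq_of_lin {v w : WE F} (h : ∀ c, lin v c = lin w c) : v = w :=
  rho_ext (Qd F) fun r hr => cv_inj (rho_lt (Qd F) v hr) (rho_lt (Qd F) w hr)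
    (by rw [rho_lin v r hr, rho_lin w r hr, h])

theorem half_e8 : chevE8.nroots / 2 = 120 := by rw [nroots_e8]

theorem nonneg_of_pos {r : ℕ} (hr : r < chevE8.nroots) (hp : chevE8.nroots / 2 ≤ r) (m : Fin 8) :
    0 ≤ cv r m :=
  Chevalley.E8.cert.cf_nonneg r hr hp m.val m.isLt

theorem nonpos_of_neg {r : ℕ} (hr : r < chevE8.nroots) (hp : r < chevE8.nroots / 2) (m : Fin 8) :
    cv r m ≤ 0 := by
  have h := nonneg_of_pos (Chevalley.E8.cert.neg_lt hr)
    (by rw [Chevalley.E8.cert.neg_eq r hr, nroots_e8] at *; omega) m
  rw [cv_neg hr] at h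
  simpa using h

/-- A descent. -/
theorem exists_desc {g : WE F} (hg : g ≠ 1) :
    ∃ i : Fin 8, rho (Qd F) g (chevE8.simple i.val) < chevE8.nroots / 2 := by
  obtain ⟨i, hi, h⟩ := (Qd F).X.good.exists_descent hg
  exact ⟨⟨i, hi⟩, by rw [rho, Chevalley.Weights.act_eq]; exact h⟩

theorem inv_mul_si {g : WE F} {i : Fin 8}
    (h : rho (Qd F) g (chevE8.simple i.val) < chevE8.nroots / 2) :
    (Qd F).X.good.inv (g * si i) + 1 = (Qd F).X.good.inv g := by
  rw [← gen_si i]
  exact (Qd F).X.good.inv_mul_gen_neg i.isLt (by
    rw [rho, Chevalley.Weights.act_eq g (simple_lt i)] at h; exact h)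

/-- An involution is a product of reflections in orthogonal roots which it negates. -/
theorem exists_orth : ∀ w : WE F, w * w = 1 → ∃ R : Finset ℕ, (∀ r ∈ R, r < chevE8.nroots) ∧
    (∀ r ∈ R, ∀ s ∈ R, r ≠ s → B (cv r) (cv s) = 0) ∧
    ∀ c, lin w c = c - ∑ r ∈ R, B (cv r) c • cv r := by
  suffices ∀ (k : ℕ) (w : WE F), (Qd F).X.good.inv w = k → w * w = 1 →
      ∃ R : Finset ℕ, (∀ r ∈ R, r < chevE8.nroots) ∧
        (∀ r ∈ R, ∀ s ∈ R, r ≠ s → B (cv r) (cv s) = 0) ∧
        ∀ c, lin w c = c - ∑ r ∈ R, B (cv r) c • cv r from fun w => this _ w rfl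
  intro k
  induction k using Nat.strong_induction_on with
  | _ k ih =>
    intro w hk hw
    by_cases h1 : w = 1
    · exact ⟨∅, by simp, by simp, fun c => by simp [h1, lin_one]⟩
    obtain ⟨i, hi⟩ := exists_desc h1
    have hlt := inv_mul_si hi
    set e : Vc := Pi.single i 1 with he
    have hee : ∀ c, B e c = av c i := fun c => B_single i c
    have e2 : B e e = 2 := by rw [he, ← cv_simple]; exact B_self (simple_lt i)
    have hss : ∀ c, lin (si i : WE F) (lin (si i) c) = c := fun c => by
      rw [← lin_mul, si_sq, lin_one]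
    by_cases hneg : lin w e = -e
    · have hse : lin (si i : WE F) e = -e := by
        rw [lin_si, ← hee, e2, ← he]; abel
      have hcomm : w * si i = si i * w := eq_of_lin fun c => by
        have hwc : B e (lin w c) = -B e c := by
          have h := lin_B w e c
          rw [hneg, show -e = (-1 : ℤ) • e by simp, B_smul_left] at h
          omega
        rw [lin_mul, lin_mul, lin_si, lin_si, lin_sub, lin_smul, ← he, hneg, ← hee, ← hee, hwc]
        simp
      have hw' : w * si i * (w * si i) = 1 := by
        calc w * si i * (w * si i) = w * si i * (si i * w) := by rw [hcomm]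
          _ = w * (si i * si i) * w := by group
          _ = 1 := by rw [si_sq, mul_one, hw]
      obtain ⟨R, hR, ho, hl⟩ := ih _ (by omega) (w * si i) rfl hw'
      have hle : lin (w * si i) e = e := by
        rw [lin_mul, hse, show -e = (-1 : ℤ) • e by simp, lin_smul, hneg]; simp
      have h0 : ∀ s ∈ R, B (cv s) e = 0 := by
        intro s hs
        have h := congrArg (B (cv s)) (hl e)
        rw [hle, B_sub_right, B_sum_right, Finset.sum_eq_single s
          (fun b hb hne => by rw [B_smul_right, ho s hs b hb (Ne.symm hne), mul_zero])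
          (fun h => absurd hs h), B_smul_right, B_self (hR s hs)] at h
        omega
      have hmem : chevE8.simple i.val ∉ R := fun hm => by
        have := h0 _ hm
        rw [cv_simple, ← he, e2] at this
        omega
      refine ⟨insert (chevE8.simple i.val) R, ?_, ?_, fun c => ?_⟩
      · intro r hr
        rcases Finset.mem_insert.1 hr with rfl | hr
        · exact simple_lt i
        · exact hR r hr
      · intro r hr s hs hne
        rcases Finset.mem_insert.1 hr with rfl | hr' <;> rcases Finset.mem_insert.1 hs with rfl | hs'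
        · exact absurd rfl hne
        · rw [cv_simple, ← he, B_symm]; exact h0 s hs'
        · rw [cv_simple, ← he]; exact h0 r hr'
        · exact ho r hr' s hs' hne
      · rw [Finset.sum_insert hmem, cv_simple, ← he,
          show w = w * si i * si i by rw [mul_assoc, si_sq, mul_one], lin_mul, hl, lin_si, ← hee,
          ← he, Finset.sum_congr rfl fun r hr => by
            rw [B_sub_right, B_smul_right, h0 r hr, mul_zero, sub_zero]]
        abel
    · have hrho : rho (Qd F) w (chevE8.simple i.val) < chevE8.nroots := rho_lt _ _ (simple_lt i)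
      -- the left descent
      have hinv : w⁻¹ = w := inv_eq_of_mul_eq_one_right hw
      have hl : (Qd F).X.good.inv (si i * w) = (Qd F).X.good.inv (w * si i) := by
        rw [← inv_inv_eq (Qd F).X.good (w * si i), mul_inv_rev, hinv,
          inv_eq_of_mul_eq_one_right (si_sq i)]
      have hdesc : rho (Qd F) (si i * w) (chevE8.simple i.val) < chevE8.nroots / 2 := by
        set r := rho (Qd F) w (chevE8.simple i.val) with hr
        rw [show rho (Qd F) (si i * w) (chevE8.simple i.val) = rho (Qd F) (si i) r from
          Chevalley.Weights.act_mul _ _ (simple_lt i),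
          show rho (Qd F) (si i) r = Chevalley.E8.cert.w i.val r from rho_simple (Qd F) i hrho]
        by_contra hge
        push Not at hge
        have hu := Chevalley.E8.cert.w_lt i.val i.isLt r hrho
        have hx : Chevalley.E8.cert.w i.val r = chevE8.simple i.val := by
          by_contra hne
          have := Chevalley.E8.cert.w_pos i.val i.isLt _ hu.1 hge hne
          rw [hu.2] at this
          omega
        apply hneg
        have h2 := hu.2
        rw [hx, Chevalley.E8.cert.w_simple i.isLt] at h2
        rw [he, lin_single, ← hr, ← h2, cv_neg (simple_lt i), cv_simple]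
      have hlt2 := inv_mul_si hdesc
      set w' := si i * w * si i with hw'
      have hw2 : w' * w' = 1 := by
        calc w' * w' = si i * w * (si i * si i) * w * si i := by rw [hw']; group
          _ = si i * (w * w) * si i := by rw [si_sq]; group
          _ = 1 := by rw [hw, mul_one, si_sq]
      obtain ⟨R, hR, ho, hlR⟩ := ih _ (by omega) w' rfl hw2
      set f : ℕ → ℕ := rho (Qd F) (si i) with hf
      have hinj : Set.InjOn f R := fun a ha b hb eab => by
        have h2 : ∀ x < chevE8.nroots, f (f x) = x := fun x hx => by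
          show Chevalley.Weights.act _ (si i) (Chevalley.Weights.act _ (si i) x) = x
          rw [← Chevalley.Weights.act_mul _ _ hx, si_sq, Chevalley.Weights.act_one]
        rw [← h2 a (hR a ha), eab, h2 b (hR b hb)]
      refine ⟨R.image f, fun r hr => ?_, fun r hr s hs hne => ?_, fun c => ?_⟩
      · obtain ⟨a, ha, rfl⟩ := Finset.mem_image.1 hr
        exact rho_lt _ _ (hR a ha)
      · obtain ⟨a, ha, rfl⟩ := Finset.mem_image.1 hr
        obtain ⟨b, hb, rfl⟩ := Finset.mem_image.1 hs
        rw [hf, rho_lin _ a (hR a ha), rho_lin _ b (hR b hb), lin_B]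
        exact ho a ha b hb fun e => hne (by rw [e])
      · rw [Finset.sum_image hinj,
          show w = si i * w' * si i by
            calc w = si i * si i * w * (si i * si i) := by rw [si_sq, one_mul, mul_one]
              _ = si i * w' * si i := by rw [hw']; group,
          lin_mul, lin_mul, hlR, lin_sub, hss, lin_sum]
        congr 1
        refine Finset.sum_congr rfl fun r hr => ?_
        rw [lin_smul, hf, rho_lin _ r (hR r hr)]
        congr 1
        conv_rhs => rw [← hss c, lin_B]

end E8

end Cfsg.Agent.H37.OddInv
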