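import Cfsg.Agent.H37.OddInv.F4Vec

/-!
F₄: a weighted inversion sum.
-/

set_option autoImplicit false
set_option maxRecDepth 100000
set_option Elab.async false

namespace Cfsg.Agent.H37.OddInv.F4

open Cfsg.Lie Cfsg.Agent.H37 Cfsg.Agent.H37.RootSys Cfsg.Agent.H37.Weyl
open Cfsg.Agent.H37.OddInv

theorem mask_t : ((List.range 48).all fun r =>
    evenB chevF4 (vec (chevF4.simple 3)) r == (63252143858076 : ℕ).testBit r) = true := by
  decide +kernel

theorem poly_t :
    ((((allWords certF4 4).filter (fixM chevF4 certF4 63252143858076)).map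
        (wtM chevF4 certF4 63252143858076)).foldr bumpC [])
      = ([2, 2, 4, 6].map fun d => List.replicate d 1).foldr mulC [1] := by
  decide +kernel

end Cfsg.Agent.H37.OddInv.F4
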