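import Cfsg.Agent.H37.OddInv.F4Red
import Cfsg.Agent.H37.OddInv.F4PolyS
import Cfsg.Agent.H37.OddInv.F4PolyT
import Cfsg.Agent.H37.Chev.Order

/-!
The two classes of involutions of `F₄(q)`, `q` odd, and their centraliser orders.
-/

set_option autoImplicit false
set_option maxRecDepth 100000
set_option Elab.async false
set_option linter.unusedSectionVars false

namespace Cfsg.Agent.H37.OddInv.F4

open Cfsg.Lie Cfsg.Agent.H37 Cfsg.Agent.H37.RootSys Cfsg.Agent.H37.Weyl
open Cfsg.Agent.H37.OddInv

theorem length_words : (allWords certF4 4).length = 1152 := by decide +kernel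

theorem words_lt : ((allWords certF4 4).all fun u => u.all fun i => decide (i < 4)) = true := by
  decide +kernel

theorem pos_s : posB chevF4 (vec (chevF4.simple 0)) = 16 := by decide +kernel

theorem pos_t : posB chevF4 (vec (chevF4.simple 3)) = 10 := by decide +kernel

theorem link : Chevalley.F4.cert.w 0 (chevF4.simple 1) = Chevalley.F4.cert.w 1 (chevF4.simple 0) ∧
    Chevalley.F4.cert.w 2 (chevF4.simple 3) = Chevalley.F4.cert.w 3 (chevF4.simple 2) ∧
    chevF4.simple 0 < 48 ∧ chevF4.simple 1 < 48 ∧ chevF4.simple 2 < 48 ∧ chevF4.simple 3 < 48 := by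
  decide +kernel

variable (F : Type*) [Field F]

/-- The data. -/
abbrev Qd : Chev.Data chevF4 F := Chev.dataF4 F

/-- The involution of a root. -/
noncomputable abbrev z (r : ℕ) : ↥(chevF4.group F) := invol (Qd F) (vec r)

variable {F}

theorem coe_z {r : ℕ} (hr : r < chevF4.nroots) :
    (z F r : GL chevF4.Idx F) = (Qd F).K.hU F r ((-1 : Fˣ) : F) :=
  Chevalley.Weights.coe_torG_cor (Qd F) hr (-1)

theorem z_w {i r : ℕ} (hi : i < chevF4.rank) (hr : r < chevF4.nroots) :
    IsConj (z F r) (z F ((Qd F).K.w i r)) := by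
  refine isConj_iff.2 ⟨RootSys.nG (Qd F).K F i, Subtype.ext ?_⟩
  rw [Subgroup.coe_mul, Subgroup.coe_mul, Subgroup.coe_inv, coe_z hr,
    coe_z ((Qd F).K.w_lt i hi r hr).1, coe_nG]
  exact (Qd F).K.nS_conj_hU F hi hr (-1)

theorem z_class : ∀ r < chevF4.nroots,
    IsConj (z F r) (z F (chevF4.simple 0)) ∨ IsConj (z F r) (z F (chevF4.simple 3)) := by
  refine (Qd F).K.root_induction (P := fun r =>
    IsConj (z F r) (z F (chevF4.simple 0)) ∨ IsConj (z F r) (z F (chevF4.simple 3))) ?_ ?_
  · intro i hi
    have hi' : i < 4 := hi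
    obtain ⟨l1, l2, h0, h1, h2, h3⟩ := link
    interval_cases i
    · exact Or.inl (IsConj.refl _)
    · refine Or.inl ((z_w (i := 0) (show 0 < 4 by omega) h1).trans ?_)
      rw [show (Qd F).K.w 0 (chevF4.simple 1) = (Qd F).K.w 1 (chevF4.simple 0) from l1]
      exact (z_w (show 1 < 4 by omega) h0).symm
    · refine Or.inr ((z_w (i := 3) (show 3 < 4 by omega) h2).trans ?_)
      rw [show (Qd F).K.w 3 (chevF4.simple 2) = (Qd F).K.w 2 (chevF4.simple 3) from l2.symm]
      exact (z_w (show 2 < 4 by omega) h3).symm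
    · exact Or.inr (IsConj.refl _)
  · intro i hi r hr ih
    have h := (z_w (F := F) hi hr).symm
    exact ih.imp h.trans h.trans

variable [Fintype F]

theorem tg_inj : Function.Injective (tg (Qd F)) := by
  have h := Chev.diag_F4 F
  rw [one_mul] at h
  exact (Chevalley.Weights.richOf (Qd F) h).tor_inj

theorem two_ne_zero_of_odd (hF : Odd (Fintype.card F)) : (2 : F) ≠ 0 := Ring.two_ne_zero fun h =>
  Nat.not_odd_iff_even.2 (Nat.even_iff.2 (FiniteField.even_card_iff_char_two.1 h)) hF

theorem card_weyl : (allWords certF4 4).length = Nat.card (Qd F).X.M.Group := by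
  rw [length_words]
  exact cardF4.symm

theorem words_good : ∀ u ∈ allWords (Qd F).X.C (Qd F).X.n, ∀ i ∈ u, i < (Qd F).X.n := fun u hu i hi =>
  of_decide_eq_true (List.all_eq_true.1 (List.all_eq_true.1 words_lt u hu) i hi)

theorem z_order (hF : Odd (Fintype.card F)) (a : ℕ) (hodd : ∃ m < 4, ¬ (Even (vec a m))) :
    orderOf (z F a) = 2 := by
  refine orderOf_eq_prime (by rw [sq]; exact invol_sq _ _) fun h => ?_
  obtain ⟨m, hm, hev⟩ := hodd
  have h' := congrFun (tg_inj (h.trans (map_one (tg (Qd F))).symm)) ⟨m, hm⟩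
  simp only [sgn, Pi.one_apply] at h'
  rw [(Int.not_even_iff_odd.1 hev).neg_one_zpow] at h'
  exact one_ne_neg_one (two_ne_zero_of_odd hF) (by simpa using congrArg (Units.val : Fˣ → F) h'.symm)

theorem conj_class (hF : Odd (Fintype.card F)) {u : ↥(chevF4.group F)} (hu : orderOf u = 2) :
    IsConj u (z F (chevF4.simple 0)) ∨ IsConj u (z F (chevF4.simple 3)) := by
  have hu2 : u * u = 1 := by rw [← sq, ← hu, pow_orderOf_eq_one]
  obtain ⟨m, hm, hm2, hum⟩ := exists_N_conj (Qd F) hF hu2
  obtain ⟨h, hh, hh2, hmh⟩ := exists_H_conj (Qd F) hF (reducible_of_check (Qd F) red_check) m hm hm2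
  obtain ⟨c, rfl⟩ := exists_tg (Qd F) hh
  have huc := hum.trans hmh
  have hc : c * c = 1 := tg_inj (by rw [map_mul, hh2, map_one])
  classical
  set S := (Finset.range 4).filter fun i => ∃ h : i < (Qd F).X.n, c ⟨i, h⟩ = -1 with hS
  set mask := ∑ i ∈ S, 2 ^ i with hmask
  have hbit' : ∀ i : ℕ, mask.testBit i = true ↔ i ∈ S := fun i => by
    rw [← Nat.mem_bitIndices, ← List.mem_toFinset, hmask, Finset.toFinset_bitIndices_sum_two_pow]
  have hbit : ∀ i : Fin (Qd F).X.n, mask.testBit i.val = true ↔ c i = -1 := fun i => by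
    rw [hbit', hS, Finset.mem_filter, Finset.mem_range]
    exact ⟨fun ⟨_, _, e⟩ => e, fun e => ⟨i.isLt, i.isLt, e⟩⟩
  have hlt : mask < 16 := Nat.lt_pow_two_of_testBit (n := 4) mask fun i hi => by
    by_contra hne
    rw [Bool.not_eq_false, hbit', hS, Finset.mem_filter, Finset.mem_range] at hne
    omega
  have hcase : ∀ i : Fin (Qd F).X.n, c i = 1 ∨ c i = -1 := fun i => by
    have e : (c i : F) * (c i : F) = 1 := by
      have h1 := congrArg (Units.val : Fˣ → F) (congrFun hc i)
      simpa only [Pi.mul_apply, Pi.one_apply, Units.val_mul, Units.val_one] using h1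
    rcases mul_self_eq_one_iff.1 e with h | h
    · exact Or.inl (Units.ext h)
    · exact Or.inr (Units.ext h)
  have h := List.all_eq_true.1 cover_check mask (List.mem_range.2 hlt)
  simp only [Bool.or_eq_true, beq_iff_eq, List.any_eq_true, List.mem_range, List.all_eq_true] at h
  rcases h with h0 | ⟨r, hr, hrm⟩
  · exfalso
    have hc1 : c = 1 := funext fun i => (hcase i).resolve_right fun e => by
      have := (hbit i).2 e
      rw [h0] at this
      simp at this
    have hu1 : IsConj u 1 := by rwa [hc1, map_one] at huc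
    obtain ⟨g, hg⟩ := isConj_iff.1 hu1
    rw [mul_inv_eq_one, mul_eq_left] at hg
    simp [hg] at hu
  · have e : c = sgn (Qd F) (vec r) := funext fun i => by
      have hi : i.val < 4 := i.isLt
      have hp := hrm i.val hi
      simp only [sgn]
      rcases hcase i with e | e
      · have hb : mask.testBit i.val = false := by
          by_contra hne
          have := (hbit i).1 (by simpa using hne)
          exact one_ne_neg_one (two_ne_zero_of_odd hF)
            (by simpa using congrArg (Units.val : Fˣ → F) (e.symm.trans this))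
        rw [hb] at hp
        simp only [Bool.false_eq_true, if_false, sub_zero] at hp
        rw [e, (Int.even_iff.2 hp).neg_one_zpow]
      · rw [(hbit i).2 e] at hp
        simp only [if_true] at hp
        rw [e, (Int.odd_iff.2 (by omega)).neg_one_zpow]
    rw [e] at huc
    exact (z_class r hr).imp huc.trans huc.trans

theorem card_cent (hF : Odd (Fintype.card F)) {a n : ℕ} {degs : List ℕ}
    (hpos : posB chevF4 (vec a) = n) {mask : ℕ}
    (hm : ((List.range 48).all fun r => evenB chevF4 (vec a) r == mask.testBit r) = true)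
    (hpoly : ((((allWords certF4 4).filter (fixM chevF4 certF4 mask)).map
        (wtM chevF4 certF4 mask)).foldr bumpC [])
      = (degs.map fun d => List.replicate d 1).foldr mulC [1]) :
    Nat.card (Subgroup.centralizer ({z F a} : Set ↥(chevF4.group F))) = Fintype.card F ^ n *
      (Fintype.card F - 1) ^ 4 * (degs.map fun d => ∑ i ∈ Finset.range d, Fintype.card F ^ i).prod := by
  have h := Chev.diag_F4 F
  rw [one_mul] at h
  have := card_centralizer_of_check (Qd F) (two_ne_zero_of_odd hF) (vec a) card_weyl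
    (fun r hr => beq_iff_eq.1 (List.all_eq_true.1 hm r (List.mem_range.2 hr))) hpoly words_good
  rw [hpos, h, Nat.card_eq_fintype_card (α := F)] at this
  exact this

theorem geom (q d : ℕ) (hq : 1 ≤ q) : (q - 1) * ∑ i ∈ Finset.range d, q ^ i = q ^ d - 1 := by
  obtain ⟨k, rfl⟩ : ∃ k, q = k + 1 := ⟨q - 1, by omega⟩
  have h := geom_sum_mul_add k d
  rw [Nat.add_sub_cancel, mul_comm]
  omega

theorem card_s (hF : Odd (Fintype.card F)) :
    Nat.card (Subgroup.centralizer ({z F (chevF4.simple 0)} : Set ↥(chevF4.group F))) =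
      Fintype.card F ^ 16 * (Fintype.card F ^ 2 - 1) * (Fintype.card F ^ 4 - 1) *
        (Fintype.card F ^ 6 - 1) * (Fintype.card F ^ 8 - 1) := by
  rw [card_cent hF pos_s mask_s poly_s]
  have hq : 1 ≤ Fintype.card F := Fintype.card_pos
  rw [← geom _ 2 hq, ← geom _ 4 hq, ← geom _ 6 hq, ← geom _ 8 hq]
  simp only [List.map_cons, List.map_nil, List.prod_cons, List.prod_nil]
  ring

theorem card_t (hF : Odd (Fintype.card F)) :
    Nat.card (Subgroup.centralizer ({z F (chevF4.simple 3)} : Set ↥(chevF4.group F))) =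
      Fintype.card F ^ 10 * (Fintype.card F ^ 2 - 1) ^ 2 * (Fintype.card F ^ 4 - 1) *
        (Fintype.card F ^ 6 - 1) := by
  rw [card_cent hF pos_t mask_t poly_t]
  have hq : 1 ≤ Fintype.card F := Fintype.card_pos
  rw [← geom _ 2 hq, ← geom _ 4 hq, ← geom _ 6 hq]
  simp only [List.map_cons, List.map_nil, List.prod_cons, List.prod_nil]
  ring

end Cfsg.Agent.H37.OddInv.F4
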