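import Cfsg.Agent.H37.OddInv.Enum

/-!
F₄: reducibility of the Weyl involutions.
-/

set_option autoImplicit false
set_option maxRecDepth 100000
set_option Elab.async false

namespace Cfsg.Agent.H37.OddInv.F4

open Cfsg.Lie Cfsg.Agent.H37 Cfsg.Agent.H37.RootSys Cfsg.Agent.H37.Weyl
open Cfsg.Agent.H37.OddInv

theorem red_check : ((allWords certF4 4).all (redB chevF4 Chevalley.F4.cert.cf certF4)) = true := by
  decide +kernel

end Cfsg.Agent.H37.OddInv.F4
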