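import Cfsg.Agent.H37.OddInv.Enum

/-!
F₄: the sign vectors.
-/

set_option autoImplicit false
set_option maxRecDepth 100000
set_option Elab.async false

namespace Cfsg.Agent.H37.OddInv.F4

open Cfsg.Lie Cfsg.Agent.H37 Cfsg.Agent.H37.RootSys Cfsg.Agent.H37.Weyl
open Cfsg.Agent.H37.OddInv

/-- The sign vector of a root. -/
def vec (r : ℕ) : ℕ → ℤ := fun m => Chevalley.cor chevF4 r m

theorem cover_check : ((List.range 16).all fun mask => mask == 0 || (List.range 48).any fun r =>
    (List.range 4).all fun m => (vec r m - (if mask.testBit m then 1 else 0)) % 2 == 0) = true := by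
  decide +kernel

end Cfsg.Agent.H37.OddInv.F4
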