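import Cfsg.Agent.H37.Chev.All
import Cfsg.Agent.Chevalley.Weights.Inst
import Cfsg.Agent.Chevalley.RankOne

/-!
Elements of the monomial subgroup acting on the root subgroups by a permutation of the roots and a scalar
on each root, and the reflection permutation of `n_r(b)`.
-/

set_option autoImplicit false

namespace Cfsg.Agent.H37.OddInv

open Cfsg.Lie Cfsg.Agent.H37 Cfsg.Agent.H37.RootSys
open Cfsg.Agent.Chevalley (pairingSum)

variable {D : ChevalleyDatum}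

section Lattice

variable (K : Chevalley.Cert D)

/-- `s'` is the image of `s` under the reflection in `r`. -/
def IsRefl (r s s' : ℕ) : Prop :=
  s' < D.nroots ∧ ∀ m < D.rank, K.cf s' m = K.cf s m - pairingSum D r s * K.cf r m

variable {K}

theorem IsRefl.unique {r s a b : ℕ} (ha : IsRefl K r s a) (hb : IsRefl K r s b) : a = b :=
  K.eq_of_cf ha.1 hb.1 fun m hm => by rw [ha.2 m hm, hb.2 m hm]

include K in
theorem ps_neg (r : ℕ) {s : ℕ} (hs : s < D.nroots) :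
    pairingSum D r (D.neg s) = -pairingSum D r s := by
  simp only [pairingSum, ← Finset.sum_neg_distrib]
  refine Finset.sum_congr rfl fun m hm => ?_
  rw [K.cartan_neg_root (Finset.mem_range.1 hm) hs]
  ring

include K in
theorem ps_self : ∀ r < D.nroots, pairingSum D r r = 2 := by
  refine K.root_induction (P := fun r => pairingSum D r r = 2) (fun i hi => ?_) fun i hi r hr ih => ?_
  · rw [K.pairing_simple hi, K.cartan_self i hi]
  · rw [K.pairing_w hi hr (K.w_lt i hi r hr).1, (K.w_lt i hi r hr).2, ih]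

theorem cf_ne_zero {r : ℕ} (hr : r < D.nroots) : ∃ m < D.rank, K.cf r m ≠ 0 := by
  by_contra hne
  push Not at hne
  refine K.neg_ne hr (K.eq_of_cf (K.neg_lt hr) hr fun m hm => ?_)
  rw [K.cf_neg r hr m hm, hne m hm, neg_zero]

end Lattice

variable {F : Type*} [Field F] (Q : Chev.Data D F)

/-- The action of the Weyl group on root indices. -/
noncomputable abbrev rho (w : Q.X.M.Group) (r : ℕ) : ℕ := Chevalley.Weights.act Q.X.good w r

theorem rho_lt (w : Q.X.M.Group) {r : ℕ} (hr : r < D.nroots) : rho Q w r < D.nroots :=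
  Chevalley.Weights.act_lt w hr

theorem rho_simple (i : Fin Q.X.n) {r : ℕ} (hr : r < D.nroots) :
    rho Q (Q.X.M.simple i) r = Q.K.w i r :=
  (Chevalley.Weights.act_simple i hr).trans (sigma_eq_w Q.X.good Q.K i.isLt hr)

theorem rho_neg (w : Q.X.M.Group) {r : ℕ} (hr : r < D.nroots) :
    rho Q w (D.neg r) = D.neg (rho Q w r) := by
  rw [Q.K.neg_eq r hr, Q.K.neg_eq _ (rho_lt Q w hr)]
  exact Chevalley.Weights.act_neg w hr

/-- The action respects linear relations between roots. -/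
theorem rho_comb (w : Q.X.M.Group) : ∀ {x y z : ℕ} {a : ℤ}, x < D.nroots → y < D.nroots →
    z < D.nroots → (∀ m < D.rank, Q.K.cf x m = Q.K.cf y m - a * Q.K.cf z m) →
    ∀ m < D.rank, Q.K.cf (rho Q w x) m = Q.K.cf (rho Q w y) m - a * Q.K.cf (rho Q w z) m := by
  refine Sys.gen_induction (p := fun w => ∀ {x y z : ℕ} {a : ℤ}, x < D.nroots → y < D.nroots →
    z < D.nroots → (∀ m < D.rank, Q.K.cf x m = Q.K.cf y m - a * Q.K.cf z m) →
    ∀ m < D.rank, Q.K.cf (rho Q w x) m = Q.K.cf (rho Q w y) m - a * Q.K.cf (rho Q w z) m) ?_ ?_ w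
  · intro x y z a hx hy hz h
    simpa [rho, Chevalley.Weights.act_one] using h
  · intro i w ih x y z a hx hy hz h m hm
    have hv : Chevalley.Valid D [i.val] := fun j hj => by
      rw [List.mem_singleton] at hj
      rw [hj]
      exact Q.rank_eq.symm ▸ i.isLt
    have key := Q.K.wA_comb hv (rho_lt Q w hx) (rho_lt Q w hy) (rho_lt Q w hz) (ih hx hy hz h) m hm
    simpa [rho, Chevalley.Weights.act_mul, hx, hy, hz, Chevalley.Weights.act_lt,
      Chevalley.Cert.wA, rho_simple Q i (rho_lt Q w hx), rho_simple Q i (rho_lt Q w hy),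
      rho_simple Q i (rho_lt Q w hz)] using key

theorem rho_ext {v w : Q.X.M.Group} (h : ∀ r < D.nroots, rho Q v r = rho Q w r) : v = w :=
  Q.X.good.hom_injective (Equiv.ext fun r => Fin.ext (by
    rw [← Chevalley.Weights.act_eq v r.isLt, ← Chevalley.Weights.act_eq w r.isLt]
    exact h r r.isLt))

/-- A root element. -/
abbrev xg (r : ℕ) (t : F) : ↥(D.group F) := xG Q.K F r t

/-- `n_r(b)`. -/
def nG' (r : ℕ) (b : F) : ↥(D.group F) :=
  ⟨Q.K.nU F r b, Q.K.wU_mem F fun p _ => Q.K.xU_mem_group F p.1 p.2⟩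

/-- `h_r(c)`. -/
def hG' (r : ℕ) (c : F) : ↥(D.group F) :=
  ⟨Q.K.hU F r c, Q.K.wU_mem F fun p _ => Q.K.xU_mem_group F p.1 p.2⟩

@[simp] theorem coe_nG' (r : ℕ) (b : F) : (nG' Q r b : GL D.Idx F) = Q.K.nU F r b := rfl

@[simp] theorem coe_hG' (r : ℕ) (b : F) : (hG' Q r b : GL D.Idx F) = Q.K.hU F r b := rfl

theorem hG'_mem {r : ℕ} (hr : r < D.nroots) {c : F} (hc : c ≠ 0) : hG' Q r c ∈ Q.amb.H :=
  hU_mem Q.K hr hc

theorem nG'_eq (r : ℕ) (b : F) : nG' Q r b = hG' Q r b * nG' Q r 1 := by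
  refine Subtype.ext ?_
  rw [Subgroup.coe_mul, coe_nG', coe_nG', coe_hG', Q.K.hU_eq, mul_assoc,
    show Q.K.nU F r (-1) = (Q.K.nU F r 1)⁻¹ from (Q.K.nU_inv F r 1).symm, inv_mul_cancel, mul_one]

theorem nG'_mem_N {r : ℕ} (hr : r < D.nroots) {b : F} (hb : b ≠ 0) : nG' Q r b ∈ Q.amb.N := by
  rw [nG'_eq]
  refine mul_mem (Q.amb.H_le_N (hG'_mem Q hr hb)) ?_
  rcases Nat.lt_or_ge r (D.nroots / 2) with h | h
  · have := (Q.nU_mem_N (D.neg r) (Q.K.neg_lt hr) (by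
      rw [Q.K.neg_eq r hr]; have := Q.ord.even; omega)).2
    simp only [Q.K.neg_neg hr] at this
    exact this
  · exact (Q.nU_mem_N r hr h).1

theorem xg_eq_one {r : ℕ} (hr : r < D.nroots) {t : F} : xg Q r t = 1 ↔ t = 0 :=
  ⟨fun h => (Q.K.xU_eq_one_iff F hr t).1 (congrArg Subtype.val h), fun h => h ▸ Q.sys.x_zero' hr⟩

theorem xg_inj {r : ℕ} (hr : r < D.nroots) {a b : F} (h : xg Q r a = xg Q r b) : a = b := by
  have h2 : xg Q r (a + -b) = 1 :=
    (Q.sys.x_add' r hr a (-b)).trans (by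
      show xg Q r a * xg Q r (-b) = 1
      rw [h]
      exact (Q.sys.x_add' r hr b (-b)).symm.trans (by rw [add_neg_cancel]; exact Q.sys.x_zero' hr))
  linear_combination (xg_eq_one Q hr).1 h2

theorem xg_root_inj {r s : ℕ} (hr : r < D.nroots) (hs : s < D.nroots) {t u : F} (ht : t ≠ 0)
    (e : xg Q r t = xg Q s u) : r = s := by
  by_contra hne
  refine ht (cor_zero Q.K hr fun i hi => ?_)
  have h := congrArg (fun g : ↥(D.group F) =>
    ((g : GL D.Idx F) : Matrix D.Idx D.Idx F) (.inl ⟨i, hi⟩) (.inr ⟨D.neg r, Q.K.neg_lt hr⟩)) e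
  simp only [coe_xG, Chevalley.Cert.coe_xU] at h
  rw [x_inl_inr Q.K hr, x_inl_inr Q.K hs, if_pos rfl, if_neg] at h
  · exact h
  · intro h'
    apply hne
    have h'' := congrArg D.neg h'
    rwa [Q.K.neg_neg hr, Q.K.neg_neg hs] at h''

/-- `g` carries each root subgroup to the one of the image root, linearly. -/
def Acts (g : ↥(D.group F)) (w : Q.X.M.Group) : Prop :=
  ∀ r < D.nroots, ∃ l : Fˣ, ∀ t : F, g * xg Q r t * g⁻¹ = xg Q (rho Q w r) ((l : F) * t)

theorem Acts.one : Acts Q 1 1 := fun r _ =>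
  ⟨1, fun t => by simp [rho, Chevalley.Weights.act_one]⟩

theorem Acts.mul {g g' : ↥(D.group F)} {w w' : Q.X.M.Group} (h : Acts Q g w) (h' : Acts Q g' w') :
    Acts Q (g * g') (w * w') := by
  intro r hr
  obtain ⟨a, ha⟩ := h' r hr
  obtain ⟨b, hb⟩ := h (rho Q w' r) (rho_lt Q w' hr)
  refine ⟨b * a, fun t => ?_⟩
  rw [show g * g' * xg Q r t * (g * g')⁻¹ = g * (g' * xg Q r t * g'⁻¹) * g⁻¹ by group, ha, hb,
    show rho Q (w * w') r = rho Q w (rho Q w' r) from Chevalley.Weights.act_mul _ _ hr, Units.val_mul,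
    mul_assoc]

theorem Acts.unique {g : ↥(D.group F)} {v w : Q.X.M.Group} (h : Acts Q g v) (h' : Acts Q g w) :
    v = w := by
  refine rho_ext Q fun r hr => ?_
  obtain ⟨a, ha⟩ := h r hr
  obtain ⟨b, hb⟩ := h' r hr
  exact xg_root_inj Q (rho_lt Q v hr) (rho_lt Q w hr) (t := (a : F) * 1) (by simp)
    ((ha 1).symm.trans (hb 1))

/-- The torus in coordinates. -/
noncomputable abbrev tg : (Fin Q.X.n → Fˣ) →* ↥(D.group F) := Chevalley.Weights.torG Q

theorem exists_tg {h : ↥(D.group F)} (hh : h ∈ Q.amb.H) : ∃ c, tg Q c = h :=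
  MonoidHom.mem_range.1 ((Chevalley.Weights.torG_range Q).symm ▸ hh)

theorem tg_mem (c : Fin Q.X.n → Fˣ) : tg Q c ∈ Q.amb.H :=
  SetLike.le_def.1 (Chevalley.Weights.torG_range Q).le ⟨c, rfl⟩

/-- The value of a root on the torus. -/
def chi (r : ℕ) (c : Fin Q.X.n → Fˣ) : Fˣ := ∏ i : Fin Q.X.n, c i ^ D.cartan i.val r

theorem tg_conj {r : ℕ} (hr : r < D.nroots) (c : Fin Q.X.n → Fˣ) (t : F) :
    tg Q c * xg Q r t * (tg Q c)⁻¹ = xg Q r ((chi Q r c : F) * t) := by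
  refine Subtype.ext ?_
  set c' : Fin D.rank → Fˣ := fun m => c ⟨m.val, Q.rank_eq ▸ m.isLt⟩
  have hchi : chi Q r c = ∏ i : Fin D.rank, c' i ^ D.cartan i.val r := by
    refine Fintype.prod_equiv (finCongr Q.rank_eq.symm) _ _ fun i => ?_
    rfl
  have hscal : Chevalley.Scales (fun x : D.Idx => ∏ i : Fin D.rank,
      c' i ^ Chevalley.pe (D.simple i) x) r (chi Q r c) := by
    intro k row col hne
    show _ = chi Q r c ^ k * _
    simp only [hchi, ← Finset.prod_pow, ← Finset.prod_mul_distrib]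
    refine Finset.prod_congr rfl fun i _ => ?_
    have := Q.K.scales_hDiag F (r := D.simple i) (s := r) hr (c' i) k row col hne
    rw [Q.K.pairing_simple i.isLt] at this
    exact this
  exact Q.K.dU_conj_xU F hr hscal t

theorem Acts.of_mem_H {h : ↥(D.group F)} (hh : h ∈ Q.amb.H) : Acts Q h 1 := by
  obtain ⟨c, rfl⟩ := exists_tg Q hh
  exact fun r hr => ⟨chi Q r c, fun t => by rw [tg_conj Q hr, rho, Chevalley.Weights.act_one]⟩

theorem Acts.nG (i : Fin Q.X.n) : Acts Q (RootSys.nG Q.K F i) (Q.X.M.simple i) := by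
  intro r hr
  have hi : i.val < D.rank := Q.rank_eq.symm ▸ i.isLt
  obtain ⟨l, hl⟩ : ∃ l : Fˣ, (l : F) = (Q.K.sg i r : F) := by
    rcases Q.K.sg_pm i r with h | h
    · exact ⟨1, by simp [h]⟩
    · exact ⟨-1, by simp [h]⟩
  refine ⟨l, fun t => Subtype.ext ?_⟩
  rw [hl, rho_simple Q i hr]
  exact Q.K.nS_conj_xU F hi hr t

theorem Acts.rep (w : Q.X.M.Group) : Acts Q (Q.sys.rep w) w := by
  refine Sys.gen_induction (p := fun w => Acts Q (Q.sys.rep w) w) ?_ ?_ w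
  · rw [Q.sys.rep_one]; exact Acts.one Q
  · intro i w ih
    obtain ⟨h, hh, e⟩ := Q.sys.ns_rep (i := i) w
    have e' : Q.sys.rep (Q.X.M.simple i * w) = h⁻¹ * (RootSys.nG Q.K F i * Q.sys.rep w) := by
      rw [show RootSys.nG Q.K F i = Q.sys.ns i from rfl, e, inv_mul_cancel_left]
    have := (Acts.of_mem_H Q (inv_mem hh)).mul Q ((Acts.nG Q i).mul Q ih)
    rwa [one_mul, ← e'] at this

theorem exists_acts {g : ↥(D.group F)} (hg : g ∈ Q.amb.N) :
    ∃ w, Acts Q g w ∧ ∃ h ∈ Q.amb.H, g = h * Q.sys.rep w := by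
  obtain ⟨h, hh, w, rfl⟩ := hg
  refine ⟨w, ?_, h, hh, rfl⟩
  have := (Acts.of_mem_H Q hh).mul Q (Acts.rep Q w)
  rwa [one_mul] at this

theorem mem_H_of_acts_one {g : ↥(D.group F)} (hg : g ∈ Q.amb.N) (h : Acts Q g 1) : g ∈ Q.amb.H := by
  obtain ⟨w, hw, k, hk, rfl⟩ := exists_acts Q hg
  rw [hw.unique Q h, Q.sys.rep_one, mul_one]
  exact hk

/-- `n_r(b)` acts by the reflection in `r`. -/
theorem nU_conj_root : ∀ r < D.nroots, ∀ b : Fˣ, ∀ s < D.nroots, ∃ s', IsRefl Q.K r s s' ∧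
    ∃ l : Fˣ, ∀ t : F, Q.K.nU F r b * Q.K.xU F s t * (Q.K.nU F r b)⁻¹
      = Q.K.xU F s' ((l : F) * t) := by
  refine Q.K.root_induction (P := fun r => ∀ b : Fˣ, ∀ s < D.nroots, ∃ s', IsRefl Q.K r s s' ∧
    ∃ l : Fˣ, ∀ t : F, Q.K.nU F r b * Q.K.xU F s t * (Q.K.nU F r b)⁻¹
      = Q.K.xU F s' ((l : F) * t)) ?_ ?_
  · intro i hi b s hs
    have hw := Q.K.w_lt i hi s hs
    have hp := (Q.K.simple_lt i hi).1
    obtain ⟨l, hl⟩ : ∃ l : Fˣ, (l : F) = (Q.K.sg i s : F) := by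
      rcases Q.K.sg_pm i s with h | h
      · exact ⟨1, by simp [h]⟩
      · exact ⟨-1, by simp [h]⟩
    refine ⟨Q.K.w i s, ⟨hw.1, fun m hm => ?_⟩, b ^ pairingSum D (D.simple i) (Q.K.w i s) * l,
      fun t => ?_⟩
    · rw [Q.K.cf_w i hi s hs m hm, Q.K.cf_simple i hi m hm, Q.K.pairing_simple hi]
      split <;> ring
    · rw [nU_eq_hU_nS Q.K, mul_inv_rev,
        show ∀ a n x : GL D.Idx F, a * n * x * (n⁻¹ * a⁻¹) = a * (n * x * n⁻¹) * a⁻¹ from
          fun a n x => by group,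
        Q.K.nS_conj_xU F hi hs, Q.K.hU_conj_xU F hp hw.1, Units.val_mul, hl, mul_assoc]
  · intro i hi r hr ih b' s hs
    obtain ⟨b, hb⟩ : ∃ b : Fˣ, (Q.K.sg i r : F) * b = b' := by
      rcases Q.K.sg_pm i r with h | h
      · exact ⟨b', by simp [h]⟩
      · exact ⟨-b', by simp [h]⟩
    have hu := Q.K.w_lt i hi s hs
    obtain ⟨x, ⟨hx, hxc⟩, l, hl⟩ := ih b (Q.K.w i s) hu.1
    have hwx := Q.K.w_lt i hi x hx
    refine ⟨Q.K.w i x, ⟨hwx.1, fun m hm => ?_⟩, ?_⟩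
    · have hv : Chevalley.Valid D [i] := fun j hj => by
        rw [List.mem_singleton] at hj
        exact hj ▸ hi
      have key := Q.K.wA_comb hv hx hu.1 hr hxc m hm
      simp only [Chevalley.Cert.wA, List.foldr_cons, List.foldr_nil, hu.2] at key
      rw [key, Q.K.pairing_w hi hr hs]
    · obtain ⟨a, ha⟩ : ∃ a : Fˣ, (a : F) = (Q.K.sg i x : F) := by
        rcases Q.K.sg_pm i x with h | h
        · exact ⟨1, by simp [h]⟩
        · exact ⟨-1, by simp [h]⟩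
      obtain ⟨a', ha'⟩ : ∃ a : Fˣ, (a : F) = (Q.K.sg i (Q.K.w i s) : F) := by
        rcases Q.K.sg_pm i (Q.K.w i s) with h | h
        · exact ⟨1, by simp [h]⟩
        · exact ⟨-1, by simp [h]⟩
      refine ⟨a * l * a', fun t => ?_⟩
      have e1 : Q.K.nU F (Q.K.w i r) (b' : F) =
          Q.K.nS F i * Q.K.nU F r b * (Q.K.nS F i)⁻¹ := by
        rw [Q.K.nS_conj_nU F hi hr, hb]
      have hss : (Q.K.sg i (Q.K.w i s) : F) * (Q.K.sg i (Q.K.w i s) : F) = 1 := by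
        exact_mod_cast congrArg (Int.cast (R := F)) (Q.K.sg_sq i (Q.K.w i s))
      have e2 : Q.K.nS F i * Q.K.xU F (Q.K.w i s) ((a' : F) * t) * (Q.K.nS F i)⁻¹
          = Q.K.xU F s t := by
        rw [Q.K.nS_conj_xU F hi hu.1, hu.2, ha', ← mul_assoc, hss, one_mul]
      rw [e1, ← e2, show ∀ n u y : GL D.Idx F,
        n * u * n⁻¹ * (n * y * n⁻¹) * (n * u * n⁻¹)⁻¹ = n * (u * y * u⁻¹) * n⁻¹ from
          fun n u y => by group, hl, Q.K.nS_conj_xU F hi hx, Units.val_mul, Units.val_mul, ha]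
      congr 1
      ring

/-- `n_r(b) · g` for `g` acting by `w`. -/
theorem refl_acts {r : ℕ} (hr : r < D.nroots) (b : Fˣ) {g : ↥(D.group F)} {w w' : Q.X.M.Group}
    (hg : Acts Q g w) (h' : Acts Q (nG' Q r b * g) w') {s : ℕ} (hs : s < D.nroots) :
    IsRefl Q.K r (rho Q w s) (rho Q w' s) := by
  obtain ⟨a, ha⟩ := hg s hs
  obtain ⟨a', ha'⟩ := h' s hs
  obtain ⟨u, hu, l, hl⟩ := nU_conj_root Q r hr b _ (rho_lt Q w hs)
  have e : nG' Q r b * g * xg Q s 1 * (nG' Q r b * g)⁻¹ = xg Q u ((l : F) * ((a : F) * 1)) := by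
    rw [show nG' Q r b * g * xg Q s 1 * (nG' Q r b * g)⁻¹
      = nG' Q r b * (g * xg Q s 1 * g⁻¹) * (nG' Q r b)⁻¹ by group, ha]
    exact Subtype.ext (hl _)
  rw [ha'] at e
  rw [xg_root_inj Q (rho_lt Q w' hs) hu.1 (by simp) e]
  exact hu

end Cfsg.Agent.H37.OddInv
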